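import Groth.Agent.KSix.K240.RelChart
import Groth.Agent.Cohder.PCTri2

/-!
# Relative pseudo-coherence: open restriction, covers, triangles, closed immersions, flat maps
-/

set_option autoImplicit false
universe u
open CategoryTheory CategoryTheory.Limits AlgebraicGeometry CategoryTheory.Pretriangulated
open Groth.Agent.PerfA Groth.Agent.PerfA.Restrict Groth.Agent.PerfC.PcLocal
open Groth.Agent.PerfC.ClosedImmPc K240.PushTest K240.ChartChange K240.RelData K240.RelChart
attribute [local instance] HasDerivedCategory.standard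

namespace K240.RelBasic

variable {X Y Z U : Scheme.{u}} {f : X ⟶ Y}

/-! ### Open restriction and covers -/

/-- A datum for the restriction of `f` to an open piece gives a datum for `f`. -/
def ofOpen (u : U ⟶ X) [IsOpenImmersion u] (D : Datum (u ≫ f)) : Datum f where
  W := D.W
  P := D.P
  j := D.j ≫ u
  i := D.i
  p := D.p
  open_j := inferInstance
  closed_i := inferInstance
  flat_p := inferInstance
  fp_p := inferInstance
  w := by rw [D.w, Category.assoc]

lemma ofOpen_test_iff (u : U ⟶ X) [IsOpenImmersion u] (D : Datum (u ≫ f)) (m : ℤ) (K : DCoh.D X) :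
    (ofOpen u D).test m K ↔ D.test m ((restrictD u).obj K) :=
  ⟨T_iso (i := D.i) ((restrictDComp D.j u).symm.app K),
    T_iso (i := D.i) ((restrictDComp D.j u).app K)⟩

/-- Relative pseudo-coherence restricts to opens of the source. -/
theorem isPseudoCoherentRel_restrict (u : U ⟶ X) [IsOpenImmersion u] {m : ℤ} {K : DCoh.D X}
    (h : DerSch.IsPseudoCoherentRel f m K) :
    DerSch.IsPseudoCoherentRel (u ≫ f) m ((restrictD u).obj K) := by
  have := h.1
  rw [isPseudoCoherentRel_iff_forall]
  exact fun D => (ofOpen_test_iff u D m K).1 (test_of_isPseudoCoherentRel h _)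

/-- Relative pseudo-coherence is local on the source. -/
theorem isPseudoCoherentRel_of_cover [LocallyOfFiniteType f] {m : ℤ} {K : DCoh.D X}
    (h : ∀ x : X, ∃ (U : Scheme.{u}) (u : U ⟶ X) (_ : IsOpenImmersion u) (y : U), u y = x ∧
      DerSch.IsPseudoCoherentRel (u ≫ f) m ((restrictD u).obj K)) :
    DerSch.IsPseudoCoherentRel f m K := by
  refine isPseudoCoherentRel_of_data fun x => ?_
  obtain ⟨U, u, hu, y, rfl, hU⟩ := h x
  obtain ⟨D, w, hw, -, -⟩ := exists_datum (u ≫ f) y ⊤ trivial
  refine ⟨ofOpen u D, w, ?_, (ofOpen_test_iff u D m K).2 (test_of_isPseudoCoherentRel hU D)⟩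
  change (D.j ≫ u) w = _
  rw [Scheme.Hom.comp_apply, hw]

/-! ### Triangles -/

lemma triangle_mem {W P X : Scheme.{u}} (j : W ⟶ X) [IsOpenImmersion j] (i : W ⟶ P)
    [IsClosedImmersion i] {T : Triangle (DCoh.D X)} (hT : T ∈ distinguishedTriangles) :
    (pushD i).mapTriangle.obj ((restrictD j).mapTriangle.obj T) ∈ distinguishedTriangles :=
  (pushD i).map_distinguished _ ((restrictD j).map_distinguished _ hT)

theorem isPseudoCoherentRel_obj₃ [LocallyOfFiniteType f] (m : ℤ) (T : Triangle (DCoh.D X))
    (hT : T ∈ distinguishedTriangles) (h₁ : DerSch.IsPseudoCoherentRel f (m + 1) T.obj₁)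
    (h₂ : DerSch.IsPseudoCoherentRel f m T.obj₂) : DerSch.IsPseudoCoherentRel f m T.obj₃ := by
  rw [isPseudoCoherentRel_iff_forall] at *
  exact fun D => Groth.Agent.Cohder.PCTri2.isPseudoCoherentD_obj₃ m _ (triangle_mem D.j D.i hT)
    (h₁ D) (h₂ D)

theorem isPseudoCoherentRel_obj₂ [LocallyOfFiniteType f] (m : ℤ) (T : Triangle (DCoh.D X))
    (hT : T ∈ distinguishedTriangles) (h₁ : DerSch.IsPseudoCoherentRel f m T.obj₁)
    (h₃ : DerSch.IsPseudoCoherentRel f m T.obj₃) : DerSch.IsPseudoCoherentRel f m T.obj₂ := by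
  rw [isPseudoCoherentRel_iff_forall] at *
  exact fun D => Groth.Agent.Cohder.PCTri2.isPseudoCoherentD_obj₂ m _ (triangle_mem D.j D.i hT)
    (h₁ D) (h₃ D)

theorem isPseudoCoherentRel_obj₁ [LocallyOfFiniteType f] (m : ℤ) (T : Triangle (DCoh.D X))
    (hT : T ∈ distinguishedTriangles) (h₂ : DerSch.IsPseudoCoherentRel f (m + 1) T.obj₂)
    (h₃ : DerSch.IsPseudoCoherentRel f m T.obj₃) :
    DerSch.IsPseudoCoherentRel f (m + 1) T.obj₁ := by
  rw [isPseudoCoherentRel_iff_forall] at *
  exact fun D => Groth.Agent.Cohder.PCTri2.isPseudoCoherentD_obj₁ m _ (triangle_mem D.j D.i hT)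
    (h₂ D) (h₃ D)

/-! ### Closed immersions into flat schemes, and absolute pseudo-coherence -/

/-- The datum given by a closed immersion into a flat scheme. -/
def ofClosed (i : X ⟶ Y) [IsClosedImmersion i] (g : Y ⟶ Z) [Flat g]
    [LocallyOfFinitePresentation g] : Datum (i ≫ g) where
  W := X
  P := Y
  j := 𝟙 X
  i := i
  p := g
  open_j := inferInstance
  closed_i := inferInstance
  flat_p := inferInstance
  fp_p := inferInstance
  w := by rw [Category.id_comp]

lemma ofClosed_test_iff (i : X ⟶ Y) [IsClosedImmersion i] (g : Y ⟶ Z) [Flat g]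
    [LocallyOfFinitePresentation g] (m : ℤ) (K : DCoh.D X) :
    (ofClosed i g).test m K ↔ DCoh.IsPseudoCoherentD m ((pushD i).obj K) := by
  have e : (restrictD (𝟙 X)).obj K ≅ K :=
    (ExactD.mapDIso Scheme.Modules.restrictFunctorId).app K ≪≫ (ExactD.mapDId _).app K
  exact ⟨T_iso (i := i) e, T_iso (i := i) e.symm⟩

/-- Relative pseudo-coherence through a closed immersion into a flat scheme locally of finite
presentation. -/
theorem isPseudoCoherentRel_closed_flat_iff (i : X ⟶ Y) [IsClosedImmersion i] (g : Y ⟶ Z) [Flat g]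
    [LocallyOfFinitePresentation g] (m : ℤ) (K : DCoh.D X) :
    DerSch.IsPseudoCoherentRel (i ≫ g) m K ↔ DCoh.IsPseudoCoherentD m ((pushD i).obj K) := by
  rw [← ofClosed_test_iff i g]
  refine ⟨fun h => test_of_isPseudoCoherentRel h _, fun h => ?_⟩
  exact isPseudoCoherentRel_of_data fun x => ⟨ofClosed i g, x, rfl, h⟩

/-- For a flat morphism locally of finite presentation, relative pseudo-coherence is absolute
pseudo-coherence. -/
theorem isPseudoCoherentRel_flat_iff (g : Y ⟶ Z) [Flat g] [LocallyOfFinitePresentation g] (m : ℤ)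
    (K : DCoh.D Y) : DerSch.IsPseudoCoherentRel g m K ↔ DCoh.IsPseudoCoherentD m K := by
  have h := isPseudoCoherentRel_closed_flat_iff (𝟙 Y) g m K
  rw [Category.id_comp] at h
  have e : (pushD (𝟙 Y)).obj K ≅ K :=
    (ExactD.mapDIso (Scheme.Modules.pushforwardId Y)).app K ≪≫ (ExactD.mapDId _).app K
  exact h.trans ⟨pc_of_iso e, pc_of_iso e.symm⟩

/-! ### Composition with a flat morphism on the target -/

/-- A datum for `f` gives a datum for `f ≫ g` for flat `g`. -/
def compFlat (g : Y ⟶ Z) [Flat g] [LocallyOfFinitePresentation g] (D : Datum f) :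
    Datum (f ≫ g) where
  W := D.W
  P := D.P
  j := D.j
  i := D.i
  p := D.p ≫ g
  open_j := inferInstance
  closed_i := inferInstance
  flat_p := inferInstance
  fp_p := inferInstance
  w := by rw [← Category.assoc, D.w, Category.assoc]

/-- Relative pseudo-coherence does not change by composing with a flat morphism locally of finite
presentation. -/
theorem isPseudoCoherentRel_comp_flat_iff [LocallyOfFiniteType f] (g : Y ⟶ Z) [Flat g]
    [LocallyOfFinitePresentation g] (m : ℤ) (K : DCoh.D X) :
    DerSch.IsPseudoCoherentRel (f ≫ g) m K ↔ DerSch.IsPseudoCoherentRel f m K := by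
  constructor
  · intro h
    rw [isPseudoCoherentRel_iff_forall]
    exact fun D => test_of_isPseudoCoherentRel h (compFlat g D)
  · intro h
    refine isPseudoCoherentRel_of_data fun x => ?_
    obtain ⟨D, w, hw, -, -⟩ := exists_datum f x ⊤ trivial
    exact ⟨compFlat g D, w, hw, test_of_isPseudoCoherentRel h D⟩

/-- Locality on the base. -/
theorem isPseudoCoherentRel_iff_of_fac {V : Scheme.{u}} (v : V ⟶ Y) [IsOpenImmersion v]
    (f' : X ⟶ V) (hf : f' ≫ v = f) (m : ℤ) (K : DCoh.D X) :
    DerSch.IsPseudoCoherentRel f m K ↔ DerSch.IsPseudoCoherentRel f' m K := by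
  subst hf
  constructor
  · intro h
    have := h.1
    have : LocallyOfFiniteType f' := locallyOfFiniteType_of_comp f' v
    exact (isPseudoCoherentRel_comp_flat_iff v m K).1 h
  · intro h
    have := h.1
    exact (isPseudoCoherentRel_comp_flat_iff v m K).2 h

/-- Equal morphisms. -/
lemma isPseudoCoherentRel_congr {f f' : X ⟶ Y} (h : f = f') (m : ℤ) (K : DCoh.D X) :
    DerSch.IsPseudoCoherentRel f m K ↔ DerSch.IsPseudoCoherentRel f' m K := by
  rw [h]

end K240.RelBasic
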