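import Groth.Agent.KSix.K240.RelBasic
import Groth.Agent.Dual.H370.PullKill
import Groth.Agent.PerfB.PCFpqc

/-!
# Relative pseudo-coherence: flat base change and faithfully flat descent

* `pullPushIso`: base change for the direct image of arbitrary modules along a closed immersion;
* `pullPushDIso`: the derived version for flat base change;
* `isPseudoCoherentRel_pullbackD`: stability of relative pseudo-coherence under flat base change;
* `isPseudoCoherentRel_of_pullbackD`: descent along faithfully flat quasi-compact base change.
-/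

set_option autoImplicit false
universe u
open CategoryTheory CategoryTheory.Limits AlgebraicGeometry CategoryTheory.Pretriangulated
open Groth.Agent.PerfA Groth.Agent.PerfA.Restrict Groth.Agent.PerfC.PcLocal
open Groth.Agent.PerfC.ClosedImmPc K240.PushTest K240.ChartChange K240.RelData K240.RelChart
open Groth.Agent.PerfB.FlatPull K240.RelBasic
attribute [local instance] HasDerivedCategory.standard

namespace K240.RelFlat

section Modules

variable {Z X Z' X' : Scheme.{u}} {i : Z ⟶ X} [IsClosedImmersion i] {f : X' ⟶ X} {i' : Z' ⟶ X'}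
  [IsClosedImmersion i'] {g : Z' ⟶ Z}

lemma isIso_counit (i : Z ⟶ X) [IsClosedImmersion i] :
    IsIso (Scheme.Modules.pullbackPushforwardAdjunction i).counit := by
  have : ∀ M, IsIso ((Scheme.Modules.pullbackPushforwardAdjunction i).counit.app M) :=
    fun M => inferInstance
  exact NatIso.isIso_of_isIso_app _

/-- `i^* i_* ≅ id` for a closed immersion. -/
noncomputable def counitIso (i : Z ⟶ X) [IsClosedImmersion i] :
    Scheme.Modules.pushforward i ⋙ Scheme.Modules.pullback i ≅ 𝟭 _ :=
  haveI := isIso_counit i
  asIso (Scheme.Modules.pullbackPushforwardAdjunction i).counit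

lemma isIso_unit_comp (hsq : IsPullback g i' i f) :
    IsIso (Functor.whiskerLeft (Scheme.Modules.pushforward i ⋙ Scheme.Modules.pullback f)
      (Scheme.Modules.pullbackPushforwardAdjunction i').unit) := by
  have : ∀ M, IsIso ((Functor.whiskerLeft (Scheme.Modules.pushforward i ⋙
      Scheme.Modules.pullback f) (Scheme.Modules.pullbackPushforwardAdjunction i').unit).app M) :=
    fun M => (Groth.Agent.Dual.H370.PullKill.kills_pullback hsq
      (Groth.Agent.Ega1.ClosedKill.kills_pushforward i M)).isIso_unit i'
  exact NatIso.isIso_of_isIso_app _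

/-- Base change for direct images along closed immersions, for arbitrary modules. -/
noncomputable def pullPushIso (hsq : IsPullback g i' i f) :
    Scheme.Modules.pushforward i ⋙ Scheme.Modules.pullback f ≅
      Scheme.Modules.pullback g ⋙ Scheme.Modules.pushforward i' :=
  haveI := isIso_unit_comp hsq
  asIso (Functor.whiskerLeft (Scheme.Modules.pushforward i ⋙ Scheme.Modules.pullback f)
      (Scheme.Modules.pullbackPushforwardAdjunction i').unit) ≪≫
    Functor.associator _ _ _ ≪≫
    Functor.isoWhiskerLeft (Scheme.Modules.pushforward i) ((Functor.associator _ _ _).symm ≪≫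
      Functor.isoWhiskerRight (Scheme.Modules.pullbackComp i' f ≪≫
        Scheme.Modules.pullbackCongr hsq.w.symm ≪≫ (Scheme.Modules.pullbackComp g i).symm)
        (Scheme.Modules.pushforward i') ≪≫ Functor.associator _ _ _) ≪≫
    (Functor.associator _ _ _).symm ≪≫
    Functor.isoWhiskerRight (counitIso i) _ ≪≫ Functor.leftUnitor _

/-- Flat base change for direct images along closed immersions, derived version. -/
noncomputable def pullPushDIso (hsq : IsPullback g i' i f) [Flat f] [Flat g] :
    pushD i ⋙ pullbackD f ≅ pullbackD g ⋙ pushD i' :=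
  haveI : (Scheme.Modules.pushforward i ⋙ Scheme.Modules.pullback f).Additive := inferInstance
  haveI : PreservesFiniteLimits (Scheme.Modules.pushforward i ⋙ Scheme.Modules.pullback f) :=
    comp_preservesFiniteLimits _ _
  haveI : PreservesFiniteColimits (Scheme.Modules.pushforward i ⋙ Scheme.Modules.pullback f) :=
    comp_preservesFiniteColimits _ _
  ExactD.mapDComp (F := Scheme.Modules.pushforward i) (G := Scheme.Modules.pullback f)
      (H := Scheme.Modules.pushforward i ⋙ Scheme.Modules.pullback f) (Iso.refl _) ≪≫
    (ExactD.mapDComp (F := Scheme.Modules.pullback g) (G := Scheme.Modules.pushforward i')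
      (H := Scheme.Modules.pushforward i ⋙ Scheme.Modules.pullback f) (pullPushIso hsq).symm).symm

/-- The test is stable under flat base change of the ambient scheme. -/
lemma T_pullback (hsq : IsPullback g i' i f) [Flat f] [Flat g] {m : ℤ} {K : DCoh.D Z}
    (h : T i m K) : T i' m ((pullbackD g).obj K) :=
  pc_of_iso ((pullPushDIso hsq).app K) (isPseudoCoherentD_pullbackD f h)

/-- The test descends along faithfully flat quasi-compact base change of the ambient scheme. -/
lemma T_of_pullback (hsq : IsPullback g i' i f) [Flat f] [Surjective f] [QuasiCompact f] [Flat g]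
    {m : ℤ} {K : DCoh.D Z} (h : T i' m ((pullbackD g).obj K)) : T i m K :=
  Groth.Agent.PerfB.PCFpqc.pc_of_pullbackD f _ m (pc_of_iso ((pullPushDIso hsq).symm.app K) h)

/-- `i_* O` stays pseudo-coherent under flat base change. -/
lemma PO_pullback (hsq : IsPullback g i' i f) [Flat f] (h : PO i) : PO i' := fun m => by
  obtain ⟨e⟩ := Groth.Agent.Dual.H370.PullKill.nonempty_pull_push hsq
  exact pc_of_iso (((Scheme.Modules.pullback f).mapDerivedCategorySingleFunctor 0).app _ ≪≫
    (DerivedCategory.singleFunctor _ 0).mapIso e) (isPseudoCoherentD_pullbackD f (h m))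

end Modules

section Unit

variable {X Y : Scheme.{u}}

/-- `O_X` in degree `0`. -/
noncomputable def unitIso (X : Scheme.{u}) :
    DCoh.toD X (DerSch.unitCx X) ≅ DCoh.inD X (Coh.structureModule X) :=
  (DerivedCategory.singleFunctorIsoCompQ X.Modules 0).symm.app _

/-- `g^* O_Y[0] ≅ O_X[0]`. -/
noncomputable def pullbackDUnit (g : X ⟶ Y) [Flat g] :
    (pullbackD g).obj (DCoh.toD Y (DerSch.unitCx Y)) ≅ DCoh.toD X (DerSch.unitCx X) :=
  (pullbackD g).mapIso (unitIso Y) ≪≫
    ((Scheme.Modules.pullback g).mapDerivedCategorySingleFunctor 0).app _ ≪≫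
      (DerivedCategory.singleFunctor _ 0).mapIso (pullbackUnit g) ≪≫ (unitIso X).symm

end Unit

section BaseChange

variable {X Y X' Y' : Scheme.{u}} {f : X ⟶ Y} {h : Y' ⟶ Y} {f' : X' ⟶ Y'} {g : X' ⟶ X}
  (sq : IsPullback g f' f h)

/-- The comparison morphism of the base change of a datum. -/
noncomputable def bcj (D : Datum f) : pullback D.i (pullback.fst D.p h) ⟶ X' :=
  sq.lift (pullback.fst _ _ ≫ D.j) (pullback.snd _ _ ≫ pullback.snd _ _) (by
    rw [Category.assoc, ← D.w, ← Category.assoc, pullback.condition, Category.assoc,
      pullback.condition, Category.assoc])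

lemma bcj_fst (D : Datum f) : bcj sq D ≫ g = pullback.fst _ _ ≫ D.j := sq.lift_fst _ _ _

lemma bcj_snd (D : Datum f) : bcj sq D ≫ f' = pullback.snd _ _ ≫ pullback.snd _ _ :=
  sq.lift_snd _ _ _

lemma bcj_isPullback (D : Datum f) :
    IsPullback (pullback.fst D.i (pullback.fst D.p h)) (bcj sq D) D.j g := by
  have h1 : IsPullback (pullback.snd D.i (pullback.fst D.p h) ≫ pullback.snd D.p h)
      (pullback.fst D.i (pullback.fst D.p h)) h (D.i ≫ D.p) :=
    ((IsPullback.of_hasPullback D.i (pullback.fst D.p h)).flip.paste_horiz
      (IsPullback.of_hasPullback D.p h).flip)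
  rw [D.w] at h1
  have h2 : IsPullback (bcj sq D ≫ f') (pullback.fst D.i (pullback.fst D.p h)) h (D.j ≫ f) := by
    rw [bcj_snd]; exact h1
  exact (IsPullback.of_right h2 (bcj_fst sq D) sq.flip).flip

lemma isOpenImmersion_bcj (D : Datum f) : IsOpenImmersion (bcj sq D) :=
  MorphismProperty.of_isPullback (bcj_isPullback sq D) D.open_j

/-- Base change of a datum. -/
noncomputable def baseChange (D : Datum f) : Datum f' where
  W := pullback D.i (pullback.fst D.p h)
  P := pullback D.p h
  j := bcj sq D
  i := pullback.snd _ _
  p := pullback.snd _ _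
  open_j := isOpenImmersion_bcj sq D
  closed_i := inferInstance
  flat_p := inferInstance
  fp_p := inferInstance
  w := (bcj_snd sq D).symm

lemma mem_range_baseChange (D : Datum f) (w : D.W) (x' : X') (hx : D.j w = g x') :
    ∃ w' : (baseChange sq D).W, (baseChange sq D).j w' = x' := by
  obtain ⟨w', -, h2⟩ := Scheme.exists_preimage_of_isPullback (bcj_isPullback sq D) w x' hx
  exact ⟨w', h2⟩

variable [Flat h] [Flat g]

/-- The test object of the base change of a datum. -/
noncomputable def testIso (D : Datum f) (K : DCoh.D X) :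
    (restrictD (baseChange sq D).j).obj ((pullbackD g).obj K) ≅
      (pullbackD (pullback.fst D.i (pullback.fst D.p h))).obj ((restrictD D.j).obj K) :=
  haveI := isOpenImmersion_bcj sq D
  (pullbackDSquare (bcj_fst sq D)).app K

omit [Flat h] [Flat g] in
lemma isPullback_ambient (D : Datum f) : IsPullback (pullback.fst D.i (pullback.fst D.p h))
    (pullback.snd D.i (pullback.fst D.p h)) D.i (pullback.fst D.p h) :=
  IsPullback.of_hasPullback _ _

lemma test_baseChange (D : Datum f) {m : ℤ} {K : DCoh.D X} (hK : D.test m K) :
    (baseChange sq D).test m ((pullbackD g).obj K) :=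
  T_iso (i := (baseChange sq D).i) (testIso sq D K).symm (T_pullback (isPullback_ambient D) hK)

lemma test_of_baseChange [Surjective h] [QuasiCompact h] (D : Datum f) {m : ℤ} {K : DCoh.D X}
    (hK : (baseChange sq D).test m ((pullbackD g).obj K)) : D.test m K :=
  T_of_pullback (isPullback_ambient D) (T_iso (i := (baseChange sq D).i) (testIso sq D K) hK)

include sq in
/-- Flat base change of relative pseudo-coherence. -/
theorem isPseudoCoherentRel_pullbackD {m : ℤ} {K : DCoh.D X}
    (hK : DerSch.IsPseudoCoherentRel f m K) :
    DerSch.IsPseudoCoherentRel f' m ((pullbackD g).obj K) := by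
  have h1 := hK.1
  have h2 : LocallyOfFiniteType f' := MorphismProperty.of_isPullback sq h1
  refine isPseudoCoherentRel_of_data fun x' => ?_
  obtain ⟨D, w, hw, -, -⟩ := exists_datum f (g x') ⊤ trivial
  obtain ⟨w', hw'⟩ := mem_range_baseChange sq D w x' hw
  exact ⟨baseChange sq D, w', hw', test_baseChange sq D (test_of_isPseudoCoherentRel hK D)⟩

include sq in
/-- Faithfully flat quasi-compact descent of relative pseudo-coherence. -/
theorem isPseudoCoherentRel_of_pullbackD [LocallyOfFiniteType f] [Surjective h] [QuasiCompact h]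
    {m : ℤ} {K : DCoh.D X} (hK : DerSch.IsPseudoCoherentRel f' m ((pullbackD g).obj K)) :
    DerSch.IsPseudoCoherentRel f m K := by
  rw [isPseudoCoherentRel_iff_forall]
  exact fun D => test_of_baseChange sq D (test_of_isPseudoCoherentRel hK _)

end BaseChange

end K240.RelFlat
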