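import Groth.Agent.KSix.K240.RelFlat

/-!
# Relative pseudo-coherence and composition

A `Tower` for `f : X ⟶ Y` and `g : Y ⟶ Z` consists of a datum `E = (V ⟶ N)` for `g` (`V` open in `Y`,
`N` flat over `Z`) and a closed immersion `d : U ⟶ P'` of an open piece `U` of `X` over `V` into a flat
scheme `t : P' ⟶ N`.  It gives a datum `top` for `f` (`U` closed in `V ×_N P'`) and a datum `bot` for
`f ≫ g` (`U` closed in `P'`), and the two differ by the base change `V ×_N P' ⟶ P'` of `V ⟶ N`.

* `isPseudoCoherentRel_comp_iff`: if `g` is pseudo-coherent then relative pseudo-coherence over `Y` and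
  over `Z` agree.
* `isPseudoCoherentRel_iff_of_pseudoCoherent`: if `g` is pseudo-coherent, relative pseudo-coherence over
  `Z` is absolute pseudo-coherence.
-/

set_option autoImplicit false
universe u
open CategoryTheory CategoryTheory.Limits AlgebraicGeometry CategoryTheory.Pretriangulated
open Groth.Agent.PerfA Groth.Agent.PerfA.Restrict Groth.Agent.PerfC.PcLocal
open Groth.Agent.PerfC.ClosedImmPc K240.PushTest K240.ChartChange K240.RelData K240.RelChart
open Groth.Agent.PerfB.FlatPull K240.RelBasic K240.RelFlat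
attribute [local instance] HasDerivedCategory.standard

namespace K240.RelComp

/-- A finite type morphism of affine schemes factors through a closed immersion into a flat affine
scheme of finite presentation. -/
lemma exists_embedding {U N : Scheme.{u}} [IsAffine U] [IsAffine N] (e : U ⟶ N)
    [LocallyOfFiniteType e] : ∃ (P : Scheme.{u}) (d : U ⟶ P) (t : P ⟶ N), IsAffine P ∧
      IsClosedImmersion d ∧ Flat t ∧ LocallyOfFinitePresentation t ∧ d ≫ t = e := by
  have h1 : e.appTop.hom.FiniteType := by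
    rw [appTop_eq]
    exact HasRingHomProperty.appLE @LocallyOfFiniteType e inferInstance ⟨⊤, isAffineOpen_top N⟩
      ⟨⊤, isAffineOpen_top U⟩ le_top
  let _ := e.appTop.hom.toAlgebra
  have h2 : Algebra.FiniteType Γ(N, ⊤) Γ(U, ⊤) := h1
  obtain ⟨n, φ, hφ⟩ := Algebra.FiniteType.iff_quotient_mvPolynomial''.1 h2
  have hC : CommRingCat.ofHom (MvPolynomial.C : Γ(N, ⊤) →+* MvPolynomial (Fin n) Γ(N, ⊤)) ≫
      CommRingCat.ofHom (φ : MvPolynomial (Fin n) Γ(N, ⊤) →+* Γ(U, ⊤)) = e.appTop := by
    ext r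
    exact φ.commutes r
  have c1 : IsClosedImmersion (Spec.map (CommRingCat.ofHom
    (φ : MvPolynomial (Fin n) Γ(N, ⊤) →+* Γ(U, ⊤)))) := isClosedImmersion_specMap _ hφ
  have c2 : Flat (Spec.map (CommRingCat.ofHom (MvPolynomial.C : Γ(N, ⊤) →+*
      MvPolynomial (Fin n) Γ(N, ⊤)))) := Flat.SpecMap_iff.2 (flat_C n)
  have c3 : LocallyOfFinitePresentation (Spec.map (CommRingCat.ofHom (MvPolynomial.C :
      Γ(N, ⊤) →+* MvPolynomial (Fin n) Γ(N, ⊤)))) :=
    (LocallyOfFinitePresentation.SpecMap_iff _).2 (finitePresentation_C n)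
  refine ⟨Spec (CommRingCat.of (MvPolynomial (Fin n) Γ(N, ⊤))),
    U.isoSpec.hom ≫ Spec.map (CommRingCat.ofHom (φ : MvPolynomial (Fin n) Γ(N, ⊤) →+* Γ(U, ⊤))),
    Spec.map (CommRingCat.ofHom MvPolynomial.C) ≫ N.isoSpec.inv, inferInstance, inferInstance,
    inferInstance, inferInstance, ?_⟩
  rw [Category.assoc, ← Spec.map_comp_assoc, hC, ← Category.assoc,
    Scheme.isoSpec_hom_naturality, Category.assoc, Iso.hom_inv_id, Category.comp_id]

variable {X Y Z : Scheme.{u}} {f : X ⟶ Y} {g : Y ⟶ Z}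

variable (f g) in
/-- Local embeddings adapted to a composition. -/
structure Tower where
  /-- the datum for `g` -/
  E : Datum g
  /-- the open piece of the source -/
  U : Scheme.{u}
  /-- the ambient scheme for the composition -/
  P' : Scheme.{u}
  /-- the open immersion -/
  j : U ⟶ X
  /-- the restriction of `f` -/
  h : U ⟶ E.W
  /-- the closed immersion -/
  d : U ⟶ P'
  /-- the structure morphism -/
  t : P' ⟶ E.P
  open_j : IsOpenImmersion j
  closed_d : IsClosedImmersion d
  flat_t : Flat t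
  fp_t : LocallyOfFinitePresentation t
  sep_t : IsSeparated t
  wd : d ≫ t = h ≫ E.i
  wh : h ≫ E.j = j ≫ f

attribute [instance] Tower.open_j Tower.closed_d Tower.flat_t Tower.fp_t Tower.sep_t

namespace Tower

variable (τ : Tower f g)

/-- The closed immersion `V ×_N P' ⟶ P'`. -/
noncomputable def c : pullback τ.t τ.E.i ⟶ τ.P' := pullback.fst τ.t τ.E.i

instance : IsClosedImmersion τ.c := by unfold c; infer_instance

/-- The closed immersion `U ⟶ V ×_N P'`. -/
noncomputable def i : τ.U ⟶ pullback τ.t τ.E.i := pullback.lift τ.d τ.h τ.wd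

lemma i_c : τ.i ≫ τ.c = τ.d := pullback.lift_fst _ _ _

lemma i_snd : τ.i ≫ pullback.snd τ.t τ.E.i = τ.h := pullback.lift_snd _ _ _

instance : IsClosedImmersion τ.i := by
  have : IsClosedImmersion (τ.i ≫ τ.c) := by rw [i_c]; infer_instance
  exact IsClosedImmersion.of_comp τ.i τ.c

/-- The datum for `f`. -/
noncomputable def top : Datum f where
  W := τ.U
  P := pullback τ.t τ.E.i
  j := τ.j
  i := τ.i
  p := pullback.snd τ.t τ.E.i ≫ τ.E.j
  open_j := inferInstance
  closed_i := inferInstance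
  flat_p := inferInstance
  fp_p := inferInstance
  w := by rw [← Category.assoc, i_snd, wh]

/-- The datum for `f ≫ g`. -/
def bot : Datum (f ≫ g) where
  W := τ.U
  P := τ.P'
  j := τ.j
  i := τ.d
  p := τ.t ≫ τ.E.p
  open_j := inferInstance
  closed_i := inferInstance
  flat_p := inferInstance
  fp_p := inferInstance
  w := by rw [← Category.assoc, wd, Category.assoc, τ.E.w, ← Category.assoc, wh, Category.assoc]

lemma isPullback_c : IsPullback (pullback.snd τ.t τ.E.i) τ.c τ.E.i τ.t :=
  (IsPullback.of_hasPullback τ.t τ.E.i).flip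

/-- The test for `f ≫ g` through the closed immersion `V ×_N P' ⟶ P'`. -/
lemma bot_test_iff (m : ℤ) (K : DCoh.D X) : τ.bot.test m K ↔
    DCoh.IsPseudoCoherentD m ((pushD τ.c).obj ((pushD τ.i).obj ((restrictD τ.j).obj K))) := by
  have e : (pushD τ.i ⋙ pushD τ.c) ≅ pushD τ.d := pushDComp τ.i τ.c ≪≫ pushDCongr τ.i_c
  exact ⟨pc_of_iso (e.symm.app _), pc_of_iso (e.app _)⟩

/-- `O` of `V ×_N P'` is pseudo-coherent on `P'` if `O_V` is on `N`. -/
lemma PO_c (h : PO τ.E.i) : PO τ.c := PO_pullback τ.isPullback_c h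

/-- The comparison of the two tests. -/
lemma test_iff (h : PO τ.E.i) (m : ℤ) (K : DCoh.D X) : τ.top.test m K ↔ τ.bot.test m K := by
  rw [bot_test_iff]
  exact iff_pushD τ.c (τ.PO_c h) _ m

end Tower

variable (f g) in
/-- Towers exist. -/
lemma exists_tower [LocallyOfFiniteType f] [LocallyOfFiniteType g] (x : X) :
    ∃ (τ : Tower f g) (u : τ.U), τ.j u = x ∧ IsAffine τ.U ∧ IsAffine τ.P' ∧ IsAffine τ.E.W ∧
      IsAffine τ.E.P := by
  obtain ⟨E, w, hw, hP, -⟩ := exists_datum g (f x) ⊤ trivial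
  have hW : IsAffine E.W := isAffine_of_isAffineHom E.i
  obtain ⟨U, hU, hxU, hUV⟩ := exists_isAffineOpen_mem_and_subset (x := x)
    (U := f ⁻¹ᵁ E.j.opensRange) (show f x ∈ E.j.opensRange from ⟨w, hw⟩)
  have hr : Set.range (U.ι ≫ f) ⊆ Set.range E.j := by
    rintro _ ⟨u, rfl⟩
    rw [Scheme.Hom.comp_apply]
    exact hUV u.2
  let h := IsOpenImmersion.lift E.j (U.ι ≫ f) hr
  have wh : h ≫ E.j = U.ι ≫ f := IsOpenImmersion.lift_fac _ _ _
  have h1 : LocallyOfFiniteType (h ≫ E.j) := by rw [wh]; infer_instance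
  have h2 : LocallyOfFiniteType h := locallyOfFiniteType_of_comp h E.j
  have h3 : IsAffine U.toScheme := hU
  obtain ⟨P, d, t, hP', hd, ht, ht', e⟩ := exists_embedding (h ≫ E.i)
  exact ⟨⟨E, U, P, U.ι, h, d, t, inferInstance, hd, ht, ht', inferInstance, e, wh⟩,
    ⟨x, hxU⟩, rfl, h3, hP', hW, hP⟩

/-- The direct image of the structure sheaf in a datum. -/
noncomputable def unitTestIso {g : Y ⟶ Z} (E : Datum g) :
    (pushD E.i).obj ((restrictD E.j).obj (DCoh.toD Y (DerSch.unitCx Y))) ≅
      DCoh.inD E.P ((Scheme.Modules.pushforward E.i).obj (Coh.structureModule E.W)) :=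
  (pushD E.i).mapIso ((restrictD E.j).mapIso (unitIso Y) ≪≫
    PerfLocal.restrictInD E.j _ ≪≫
      (DerivedCategory.singleFunctor _ 0).mapIso (Scheme.Modules.restrictUnitIso E.j)) ≪≫
    ((Scheme.Modules.pushforward E.i).mapDerivedCategorySingleFunctor 0).app _

/-- For a pseudo-coherent morphism, `O_W` is pseudo-coherent on the ambient scheme of every datum. -/
lemma PO_of_isNPseudoCoherent (hg : ∀ n : ℤ, DerSch.IsNPseudoCoherent g n) (E : Datum g) :
    PO E.i := fun m => pc_of_iso (unitTestIso E) (test_of_isPseudoCoherentRel (hg m) E)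

/-- Relative pseudo-coherence does not change when the base is changed along a pseudo-coherent
morphism. -/
theorem isPseudoCoherentRel_comp_iff [LocallyOfFiniteType f] [LocallyOfFiniteType g]
    (hg : ∀ n : ℤ, DerSch.IsNPseudoCoherent g n) (m : ℤ) (K : DCoh.D X) :
    DerSch.IsPseudoCoherentRel f m K ↔ DerSch.IsPseudoCoherentRel (f ≫ g) m K := by
  constructor
  · intro h
    refine isPseudoCoherentRel_of_data fun x => ?_
    obtain ⟨τ, u, hu, -⟩ := exists_tower f g x
    exact ⟨τ.bot, u, hu, (τ.test_iff (PO_of_isNPseudoCoherent hg τ.E) m K).1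
      (test_of_isPseudoCoherentRel h _)⟩
  · intro h
    refine isPseudoCoherentRel_of_data fun x => ?_
    obtain ⟨τ, u, hu, -⟩ := exists_tower f g x
    exact ⟨τ.top, u, hu, (τ.test_iff (PO_of_isNPseudoCoherent hg τ.E) m K).2
      (test_of_isPseudoCoherentRel h _)⟩

/-- Over a pseudo-coherent morphism, relative pseudo-coherence is absolute pseudo-coherence. -/
theorem isPseudoCoherentRel_iff_of_pseudoCoherent [LocallyOfFiniteType g]
    (hg : ∀ n : ℤ, DerSch.IsNPseudoCoherent g n) (m : ℤ) (K : DCoh.D Y) :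
    DerSch.IsPseudoCoherentRel g m K ↔ DCoh.IsPseudoCoherentD m K := by
  have h := isPseudoCoherentRel_comp_iff (f := 𝟙 Y) (g := g) hg m K
  rw [Category.id_comp] at h
  rw [← h]
  exact isPseudoCoherentRel_flat_iff (𝟙 Y) m K

end K240.RelComp
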