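import Groth.Agent.KSix.K238.PushClosed
import Groth.Agent.Flat2C.TorAmpRestr
import Groth.Agent.Dcoh.StalkRestrict
import Groth.Agent.PerfA.Restrict

/-!
# Locality of the stalkwise tor amplitude

* `amp_comp_open_iff`: open immersions on the base;
* `amp_restrict_iff`: open immersions on the source.
-/

set_option autoImplicit false
universe u
open CategoryTheory CategoryTheory.Limits AlgebraicGeometry
attribute [local instance] HasDerivedCategory.standard

namespace K240.AmpLoc

open DerivedCategory Groth.Agent Groth.Agent.Dcoh Groth.Agent.Dcoh.Stalk K238.StalkD K238.PushClosed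
  Groth.Agent.PerfA Groth.Agent.PerfA.Restrict Groth.Agent.CycB.StalkExact

section Ring

variable {A B : Type u} [CommRing A] [CommRing B]

lemma flat_restrict (φ : A →+* B) (hφ : φ.Flat) (M : ModuleCat.{u} B) (hM : Module.Flat B M) :
    Module.Flat A ((ModuleCat.restrictScalars.{u} φ).obj M) := by
  let _ := φ.toAlgebra
  have : Module.Flat A B := hφ
  let _ : Module A M := Module.compHom M φ
  have : IsScalarTower A B M := ⟨fun a b m => by
    rw [Algebra.smul_def, mul_smul]; rfl⟩
  exact Module.Flat.trans A B M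

lemma flat_of_restrict (φ : A →+* B) (hφ : Function.Bijective φ) (M : ModuleCat.{u} B)
    (hM : Module.Flat A ((ModuleCat.restrictScalars.{u} φ).obj M)) : Module.Flat B M := by
  let e : A ≃+* B := RingEquiv.ofBijective φ hφ
  exact StalkRestrict.flat_of_semilinear (R := B) (S := A) (M := M)
    (N := (ModuleCat.restrictScalars.{u} φ).obj M) e.symm (AddEquiv.refl M) (fun b m => by
      change b • (m : M) = φ (e.symm b) • (m : M)
      rw [show φ (e.symm b) = b from e.apply_symm_apply b])

/-- An `A`-module `M` with a semilinear identification with a `B`-module `N` is the restriction of `N`. -/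
noncomputable def resIso (ψ : A →+* B) (M : ModuleCat.{u} A)
    (N : ModuleCat.{u} B) (e : M ≃+ N) (he : ∀ (r : A) (x : M), e (r • x) = ψ r • e x) :
    M ≅ (ModuleCat.restrictScalars.{u} ψ).obj N :=
  let e' : M ≃ₗ[A] ((ModuleCat.restrictScalars.{u} ψ).obj N) := { e with map_smul' := he }
  e'.toModuleIso

/-- Tor amplitude and isomorphisms of rings. -/
theorem torAmp_restrict_iff (φ : A →+* B) (hφ : Function.Bijective φ) (a b : ℤ) (K : Dual.D B) :
    DRing.HasTorAmplitudeIn A a b ((DRing.restrictD φ).obj K) ↔ DRing.HasTorAmplitudeIn B a b K :=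
  ⟨Flat2C.TorAmpRestr.hasTorAmplitudeIn_of_restrict φ
      (flat_restrict φ (RingHom.Flat.of_bijective hφ)) (flat_of_restrict φ hφ) a b K,
    Flat2C.TorAmpRestr.hasTorAmplitudeIn_restrict φ
      (flat_restrict φ (RingHom.Flat.of_bijective hφ)) a b K⟩

end Ring

section Scheme

variable {X Y S T : Scheme.{u}}

lemma bijective_stalkMap (f : X ⟶ Y) [IsOpenImmersion f] (x : X) :
    Function.Bijective (f.stalkMap x).hom :=
  ConcreteCategory.bijective_of_isIso (f.stalkMap x)

/-- Open immersions on the base. -/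
theorem amp_comp_open_iff (p : X ⟶ T) (t : T ⟶ S) [IsOpenImmersion t] (x : X) (a b : ℤ)
    (K : DCoh.D X) :
    DRing.HasTorAmplitudeIn (S.presheaf.stalk ((p ≫ t).base x)) a b ((stalkOverD (p ≫ t) x).obj K) ↔
      DRing.HasTorAmplitudeIn (T.presheaf.stalk (p.base x)) a b ((stalkOverD p x).obj K) :=
  (torAmp_iff_of_iso (stalkOverComp p t x K).symm).trans
    (torAmp_restrict_iff _ (bijective_stalkMap t (p.base x)) a b _)

/-- `(M|_U)_x ≅ M_{j x}` over `O_{X, j x}`. -/
noncomputable def restrictStalk (j : X ⟶ Y) [IsOpenImmersion j] (x : X) :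
    Scheme.Modules.restrictFunctor j ⋙ stalkF x ⋙ ModuleCat.restrictScalars.{u} (j.stalkMap x).hom ≅
      stalkF (j.base x) :=
  (NatIso.ofComponents (fun M => resIso (j.stalkMap x).hom ((stalkF (j.base x)).obj M)
      ((stalkF x).obj ((Scheme.Modules.restrictFunctor j).obj M)) (StalkRestrict.ρ j M x).symm
      (fun r m => StalkRestrict.ρ_symm_smul j M x r m)) (fun {M N} φ => by
    ext m
    obtain ⟨m, rfl⟩ := (StalkRestrict.ρ j M x).surjective m
    exact ((StalkRestrict.ρ j N x).symm_apply_eq.2 (StalkRestrict.ρ_naturality j φ x m).symm).trans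
      (congrArg (stalkLin ((Scheme.Modules.restrictFunctor j).map φ) x)
        ((StalkRestrict.ρ j M x).symm_apply_apply m).symm))).symm

/-- `(K|_U)_x ≅ K_{j x}` over `O_{X, j x}`, derived version. -/
noncomputable def restrictStalkD (j : X ⟶ Y) [IsOpenImmersion j] (x : X) :
    restrictD j ⋙ stalkOverD j x ≅ stalkD (j.base x) :=
  Functor.isoWhiskerLeft (restrictD j) (ExactD.mapDComp (F := stalkF x)
      (G := ModuleCat.restrictScalars.{u} (j.stalkMap x).hom)
      (H := stalkF x ⋙ ModuleCat.restrictScalars.{u} (j.stalkMap x).hom) (Iso.refl _)) ≪≫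
    ExactD.mapDComp (F := Scheme.Modules.restrictFunctor j)
      (G := stalkF x ⋙ ModuleCat.restrictScalars.{u} (j.stalkMap x).hom)
      (H := stalkF (j.base x)) (restrictStalk j x)

/-- Open immersions on the source. -/
theorem amp_restrict_iff (j : X ⟶ Y) [IsOpenImmersion j] (q : Y ⟶ S) (x : X) (a b : ℤ)
    (K : DCoh.D Y) :
    DRing.HasTorAmplitudeIn (S.presheaf.stalk ((j ≫ q).base x)) a b
        ((stalkOverD (j ≫ q) x).obj ((restrictD j).obj K)) ↔
      DRing.HasTorAmplitudeIn (S.presheaf.stalk (q.base (j.base x))) a b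
        ((stalkOverD q (j.base x)).obj K) :=
  torAmp_iff_of_iso ((stalkOverComp j q x ((restrictD j).obj K)).symm ≪≫
    (DRing.restrictD (q.stalkMap (j.base x)).hom).mapIso ((restrictStalkD j x).app K))

end Scheme

end K240.AmpLoc
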