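import Groth.Agent.DRing.K227.TorCrit
import Groth.Agent.DRing.K226.KFlatSymm
import Groth.Agent.LoccohB.LTen
import Groth.Agent.LoccohB.ProjF
import Groth.Agent.KSix.K238.StalkPull
import Groth.Agent.Dcoh.ModTens

/-!
# Tor amplitude relative to a base by tensoring with pullbacks from the base

* `nonempty_lten`: `K ⊗^L N` computed by a K-flat resolution of the module `N`;
* `torAmp_of_tensor`, `exactAt_of_torAmp`: the criterion for tor amplitude through K-flat resolutions;
* `stalkTensorPull`: `(K ⊗ p^* L)_x = K_x ⊗ L_{p x}` over `O_{S, p x}`;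
* `isGE_tensor_pull`, `exactAt_of_isGE`: lower bounds for `K ⊗^L Lp^* N` and lower bounds for the tor amplitude.
-/

set_option autoImplicit false
universe u
open CategoryTheory CategoryTheory.Limits MonoidalCategory AlgebraicGeometry
attribute [local instance] HasDerivedCategory.standard

namespace K240.TorTen

open DerivedCategory Groth.Agent Groth.Agent.Dcoh Groth.Agent.PerfB.RingKFlat Groth.Agent.Dcoh.KFlatAbs
open Groth.Agent.Dcoh.Stalk Groth.Agent.PerfB.StalkKFlat K238.StalkD K238.StalkPull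

section Ring

variable {A : Type u} [CommRing A]

/-- `K ⊗ N` as a tensor product of complexes. -/
noncomputable def tensorSingle (K : DRing.Cx A) (N : ModuleCat.{u} A) :
    DRing.tensorCx K N ≅
      (K ⊗ (HomologicalComplex.single (ModuleCat.{u} A) (ComplexShape.up ℤ) 0).obj N : DRing.Cx A) :=
  TensSingle.singleRightIsoApp (TR A) N K

/-- The derived tensor product with a module, computed by a K-flat resolution of the module. -/
theorem nonempty_lten (N : ModuleCat.{u} A) [DRing.HasLTensor A N] (K L : DRing.Cx A)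
    (hL : KFl (TR A) L)
    (e : DRing.toD L ≅ (DerivedCategory.singleFunctor (ModuleCat.{u} A) 0).obj N) :
    Nonempty ((DRing.LTensor A N).obj (DRing.toD K) ≅ DRing.toD (K ⊗ L : DRing.Cx A)) := by
  obtain ⟨P, p, h1, h2, -, -⟩ := LoccohB.KProj.exists_kprojective K
  let S : DRing.Cx A := (HomologicalComplex.single (ModuleCat.{u} A) (ComplexShape.up ℤ) 0).obj N
  have i1 := LoccohB.LTen.hasLTensorCx S
  have i2 := LoccohB.LTen.hasLTensorCx L
  obtain ⟨e1⟩ := K227.TorCrit.nonempty_lten_kproj N P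
  have e2 : DRing.toD L ≅ DRing.toD S :=
    e ≪≫ (DerivedCategory.singleFunctorIsoCompQ (ModuleCat.{u} A) 0).app N
  obtain ⟨e3⟩ := LoccohB.LTen.ltenCongr e2
  have h3 : QuasiIso (p ▷ L : (P ⊗ L : DRing.Cx A) ⟶ (K ⊗ L : DRing.Cx A)) :=
    K226.KFlat.quasiIso_whiskerRight hL p
  exact ⟨(DRing.LTensor A N).mapIso (asIso (Q.map p)).symm ≪≫ e1 ≪≫
    Q.mapIso (tensorSingle P N) ≪≫ (LoccohB.LTen.ltenIso S P).symm ≪≫ e3.symm.app (Q.obj P) ≪≫
    LoccohB.LTen.ltenIso L P ≪≫ asIso (Q.map (p ▷ L))⟩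

/-- Tor amplitude and K-flat resolutions of modules: vanishing. -/
theorem exactAt_of_torAmp {K : DRing.Cx A} {a b : ℤ}
    (h : DRing.HasTorAmplitudeIn A a b (DRing.toD K)) (N : ModuleCat.{u} A) (L : DRing.Cx A)
    (hL : KFl (TR A) L) (e : DRing.toD L ≅ (DerivedCategory.singleFunctor (ModuleCat.{u} A) 0).obj N)
    (i : ℤ) (hi : i < a ∨ b < i) : (K ⊗ L : DRing.Cx A).ExactAt i := by
  have i1 (M : ModuleCat.{u} A) : DRing.HasLTensor A M := LoccohB.LBC.hasLTensor M
  obtain ⟨e1⟩ := nonempty_lten N K L hL e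
  rw [K227.TorCrit.exactAt_iff_subsingleton_HD]
  exact K227.TorCrit.subsingleton_HD_of_iso e1 i
    ((K227.TorCrit.torAmp_iff_lten _ a b).1 h N i hi)

/-- The criterion for tor amplitude through K-flat resolutions of modules. -/
theorem torAmp_of_tensor {K : DRing.Cx A} {a b : ℤ}
    (h : ∀ N : ModuleCat.{u} A, ∃ L : DRing.Cx A, KFl (TR A) L ∧
      Nonempty (DRing.toD L ≅ (DerivedCategory.singleFunctor (ModuleCat.{u} A) 0).obj N) ∧
      ∀ i : ℤ, i < a → (K ⊗ L : DRing.Cx A).ExactAt i)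
    (hb : ∀ i : ℤ, b < i → K.ExactAt i) : DRing.HasTorAmplitudeIn A a b (DRing.toD K) := by
  have i1 (M : ModuleCat.{u} A) : DRing.HasLTensor A M := LoccohB.LBC.hasLTensor M
  rw [K227.TorCrit.torAmp_iff_lten]
  rintro N i (hi | hi)
  · obtain ⟨L, hL, ⟨e⟩, hi'⟩ := h N
    obtain ⟨e1⟩ := nonempty_lten N K L hL e
    exact K227.TorCrit.subsingleton_HD_of_iso e1.symm i
      ((K227.TorCrit.exactAt_iff_subsingleton_HD _ i).1 (hi' i hi))
  · obtain ⟨P, hP, hP', ⟨eP⟩⟩ := K227.PerfFlat.exists_projective_rep (DRing.toD K) b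
      (fun i hi => (K227.TorCrit.exactAt_iff_subsingleton_HD K i).1 (hb i hi))
    have hPf : DRing.TermwiseFlat P := fun i => Flat2C.TorAmpRestr.flat_of_projective (hP' i)
    obtain ⟨e'⟩ := K227.LbcFlat.nonempty_lten_iso N P b hP hPf
    refine K227.TorCrit.subsingleton_HD_of_iso (e'.symm ≪≫ (DRing.LTensor A N).mapIso eP) i ?_
    rw [← K227.TorCrit.exactAt_iff_subsingleton_HD]
    exact HomologicalComplex.ExactAt.of_isZero ((tensorRight N).map_isZero (hP i hi))

end Ring

section Scheme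

variable {X S : Scheme.{u}}

local notation "stk(" x "," K ")" =>
  Functor.obj (Functor.mapHomologicalComplex (stalkF x) (ComplexShape.up ℤ)) K
local notation "pb(" f "," K ")" =>
  Functor.obj (Functor.mapHomologicalComplex (Scheme.Modules.pullback f) (ComplexShape.up ℤ)) K

/-- `(K ⊗ p^* L)_x = K_x ⊗ L_{p x}` over `O_{S, p x}`. -/
noncomputable def stalkTensorPull (p : X ⟶ S) (x : X) (K : CochainComplex X.Modules ℤ)
    (L : CochainComplex S.Modules ℤ) :
    (LoccohB.ProjF.resCx (p.stalkMap x).hom).obj stk(x, (DCoh.tensorCx.obj K).obj pb(p, L)) ≅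
      ((LoccohB.ProjF.resCx (p.stalkMap x).hom).obj stk(x, K) ⊗ stk(p.base x, L) :
        DRing.Cx (S.presheaf.stalk (p.base x))) :=
  (LoccohB.ProjF.resCx (p.stalkMap x).hom).mapIso ((stalkTensorCx x K pb(p, L)).symm ≪≫
    whiskerLeftIso stk(x, K) (stalkPullCx p x L).symm ≪≫ K226.KFlat.tensorSymm _ _) ≪≫
    (LoccohB.ProjF.projIso (p.stalkMap x).hom stk(p.base x, L) stk(x, K)).symm ≪≫
    K226.KFlat.tensorSymm _ _

lemma exactAt_res_iff {A B : Type u} [CommRing A] [CommRing B] (φ : A →+* B) (K : DRing.Cx B)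
    (i : ℤ) : ((LoccohB.ProjF.resCx φ).obj K).ExactAt i ↔ K.ExactAt i :=
  Flat2C.TorAmpRestr.exactAt_restrict_iff φ K i

lemma exactAt_stalk {K : CochainComplex X.Modules ℤ} {i : ℤ} (h : K.ExactAt i) (x : X) :
    stk(x, K).ExactAt i :=
  h.map (stalkF x)

lemma exactAt_iff_stalk (K : CochainComplex X.Modules ℤ) (i : ℤ) :
    K.ExactAt i ↔ ∀ x : X, stk(x, K).ExactAt i :=
  ⟨fun h x => exactAt_stalk h x, fun h => ((jointlyReflectIsos X).exact_iff (K.sc i)).2 h⟩

/-- The stalk over the base of `Q K`. -/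
noncomputable def stalkOverIso (p : X ⟶ S) (x : X) (K : CochainComplex X.Modules ℤ) :
    (stalkOverD p x).obj (DCoh.toD X K) ≅
      DRing.toD ((LoccohB.ProjF.resCx (p.stalkMap x).hom).obj stk(x, K)) :=
  (DRing.restrictD (p.stalkMap x).hom).mapIso ((stalkF x).mapDerivedCategoryFactors.app K) ≪≫
    (ModuleCat.restrictScalars.{u} (p.stalkMap x).hom).mapDerivedCategoryFactors.app _

/-- The stalk of a K-flat resolution of `N`. -/
noncomputable def stalkRes {N : S.Modules} {L : CochainComplex S.Modules ℤ}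
    (e : DCoh.toD S L ≅ DCoh.inD S N) (s : S) :
    DRing.toD stk(s, L) ≅
      (DerivedCategory.singleFunctor (ModuleCat.{u} (S.presheaf.stalk s)) 0).obj ((stalkF s).obj N) :=
  ((stalkF s).mapDerivedCategoryFactors.app L).symm ≪≫ (stalkD s).mapIso e ≪≫
    ((stalkF s).mapDerivedCategorySingleFunctor 0).app N

/-- `K ⊗ p^* L` is bounded below by `a` if `K` has tor amplitude `≥ a` relative to `p` at all points and
`L` is a K-flat resolution of a module. -/
theorem exactAt_tensor_pull (p : X ⟶ S) (K : CochainComplex X.Modules ℤ) {a : ℤ}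
    (h : ∀ x : X, ∃ b : ℤ, DRing.HasTorAmplitudeIn (S.presheaf.stalk (p.base x)) a b
      ((stalkOverD p x).obj (DCoh.toD X K)))
    {N : S.Modules} {L : CochainComplex S.Modules ℤ} (hL : DCoh.IsKFlat L)
    (e : DCoh.toD S L ≅ DCoh.inD S N) (i : ℤ) (hi : i < a) :
    ((DCoh.tensorCx.obj K).obj pb(p, L)).ExactAt i := by
  rw [exactAt_iff_stalk]
  intro x
  obtain ⟨b, hb⟩ := h x
  rw [← exactAt_res_iff (p.stalkMap x).hom]
  have h1 := exactAt_of_torAmp (torAmp_of_iso (stalkOverIso p x K) hb) _ stk(p.base x, L)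
    (kfl_stalk hL (p.base x)) (stalkRes e (p.base x)) i (Or.inl hi)
  exact h1.of_iso (stalkTensorPull p x K L).symm

/-- Conversely. -/
theorem exactAt_stalk_tensor (p : X ⟶ S) (K : CochainComplex X.Modules ℤ)
    (L : CochainComplex S.Modules ℤ) (x : X) (i : ℤ)
    (h : ((DCoh.tensorCx.obj K).obj pb(p, L)).ExactAt i) :
    ((LoccohB.ProjF.resCx (p.stalkMap x).hom).obj stk(x, K) ⊗ stk(p.base x, L) :
        DRing.Cx (S.presheaf.stalk (p.base x))).ExactAt i :=
  (((exactAt_res_iff (p.stalkMap x).hom _ i).2 (exactAt_stalk h x))).of_iso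
    (stalkTensorPull p x K L)

end Scheme

end K240.TorTen
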