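import Groth.Agent.KSix.K240.PushTest

/-!
# Independence of the closed immersion into a flat finitely presented affine scheme

`T_iff_affine`: for an affine scheme `S` and closed immersions `i : W ⟶ P`, `c : W ⟶ Q` over `S` into
affine schemes flat and locally of finite presentation over `S`, `i_* K` is `m`-pseudo-coherent if and
only if `c_* K` is.
-/

set_option autoImplicit false
universe u
open CategoryTheory CategoryTheory.Limits AlgebraicGeometry
open K240.PushTest
attribute [local instance] HasDerivedCategory.standard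

namespace K240.ChartChange

section Ring

variable {W : Scheme.{u}} {A : Type u} [CommRing A] (a : W ⟶ Spec (CommRingCat.of A))
  [IsClosedImmersion a]

/-- The test for the closed immersion attached to a surjective ring map. -/
def TR {B : Type u} [CommRing B] (φ : B →+* A) (m : ℤ) (K : DCoh.D W) : Prop :=
  ∀ _ : IsClosedImmersion (Spec.map (CommRingCat.ofHom φ)),
    T (a ≫ Spec.map (CommRingCat.ofHom φ)) m K

lemma isClosedImmersion_specMap {B C : Type u} [CommRing B] [CommRing C] (φ : B →+* C)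
    (h : Function.Surjective φ) : IsClosedImmersion (Spec.map (CommRingCat.ofHom φ)) :=
  IsClosedImmersion.spec_of_surjective _ h

lemma TR_comp_iff {R B B' : Type u} [CommRing R] [CommRing B] [CommRing B'] (ρ : R →+* B')
    (σ : B' →+* B) (φ : B →+* A) (hσ : Function.Surjective σ) (hφ : Function.Surjective φ)
    (h1 : ρ.Flat) (h2 : ρ.FinitePresentation) (h3 : (σ.comp ρ).Flat)
    (h4 : (σ.comp ρ).FinitePresentation) (m : ℤ) (K : DCoh.D W) :
    TR a φ m K ↔ TR a (φ.comp σ) m K := by
  have c1 := isClosedImmersion_specMap φ hφ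
  have c2 := isClosedImmersion_specMap σ hσ
  have c3 := isClosedImmersion_specMap (φ.comp σ) (hφ.comp hσ)
  let q : Spec (CommRingCat.of B') ⟶ Spec (CommRingCat.of R) := Spec.map (CommRingCat.ofHom ρ)
  have e : Spec.map (CommRingCat.ofHom σ) ≫ q = Spec.map (CommRingCat.ofHom (σ.comp ρ)) := by
    rw [← Spec.map_comp]; rfl
  have f1 : Flat q := Flat.SpecMap_iff.2 h1
  have f2 : LocallyOfFinitePresentation q := LocallyOfFinitePresentation.SpecMap_iff _ |>.2 h2
  have f3 : Flat (Spec.map (CommRingCat.ofHom σ) ≫ q) := by rw [e]; exact Flat.SpecMap_iff.2 h3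
  have f4 : LocallyOfFinitePresentation (Spec.map (CommRingCat.ofHom σ) ≫ q) := by
    rw [e]; exact LocallyOfFinitePresentation.SpecMap_iff _ |>.2 h4
  have key := T_comp_iff (a ≫ Spec.map (CommRingCat.ofHom φ)) (Spec.map (CommRingCat.ofHom σ)) q m K
  have e2 : (a ≫ Spec.map (CommRingCat.ofHom φ)) ≫ Spec.map (CommRingCat.ofHom σ) =
      a ≫ Spec.map (CommRingCat.ofHom (φ.comp σ)) := by
    rw [Category.assoc, ← Spec.map_comp]; rfl
  rw [T_congr e2] at key
  exact ⟨fun h _ => key.1 (h c1), fun h _ => key.2 (h c3)⟩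

variable {B : Type u} [CommRing B]

lemma flat_C (n : ℕ) : (MvPolynomial.C : B →+* MvPolynomial (Fin n) B).Flat :=
  RingHom.flat_algebraMap_iff.2 inferInstance

lemma finitePresentation_C (n : ℕ) :
    (MvPolynomial.C : B →+* MvPolynomial (Fin n) B).FinitePresentation :=
  RingHom.finitePresentation_algebraMap.2 inferInstance

/-- Adding variables to the ambient ring. -/
lemma TR_poly_iff {R : Type u} [CommRing R] (ρ : R →+* B) (φ : B →+* A)
    (hφ : Function.Surjective φ) (h1 : ρ.Flat) (h2 : ρ.FinitePresentation) (n : ℕ)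
    (φ' : MvPolynomial (Fin n) B →+* A) (h : φ'.comp MvPolynomial.C = φ) (m : ℤ) (K : DCoh.D W) :
    TR a φ m K ↔ TR a φ' m K := by
  choose b hb using fun i : Fin n => hφ (φ' (MvPolynomial.X i))
  let s : MvPolynomial (Fin n) B →+* B := MvPolynomial.eval₂Hom (RingHom.id B) b
  have hs : φ.comp s = φ' := by
    refine MvPolynomial.ringHom_ext (fun r => ?_) fun i => ?_
    · rw [RingHom.comp_apply, MvPolynomial.coe_eval₂Hom, MvPolynomial.eval₂_C, ← h]
      rfl
    · rw [RingHom.comp_apply, MvPolynomial.coe_eval₂Hom, MvPolynomial.eval₂_X, hb]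
  have hsC : s.comp MvPolynomial.C = RingHom.id B := by
    ext r
    rw [RingHom.comp_apply, MvPolynomial.coe_eval₂Hom, MvPolynomial.eval₂_C]
  have hs' : Function.Surjective s := fun r => ⟨MvPolynomial.C r, congr($hsC r)⟩
  have e : s.comp ((MvPolynomial.C).comp ρ) = ρ := by
    rw [← RingHom.comp_assoc, hsC, RingHom.id_comp]
  rw [← hs]
  exact TR_comp_iff a (MvPolynomial.C.comp ρ) s φ hs' hφ (h1.comp (flat_C n))
    ((finitePresentation_C n).comp h2) (by rw [e]; exact h1) (by rw [e]; exact h2) m K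

/-- Two surjections from polynomial rings. -/
lemma TR_poly_poly {R : Type u} [CommRing R] (n k : ℕ) (φ : MvPolynomial (Fin n) R →+* A)
    (ψ : MvPolynomial (Fin k) R →+* A) (hφ : Function.Surjective φ) (hψ : Function.Surjective ψ)
    (h : φ.comp MvPolynomial.C = ψ.comp MvPolynomial.C) (m : ℤ) (K : DCoh.D W) :
    TR a φ m K ↔ TR a ψ m K := by
  let Φ : MvPolynomial (Fin k) (MvPolynomial (Fin n) R) →+* A :=
    MvPolynomial.eval₂Hom φ fun j => ψ (MvPolynomial.X j)
  let Ψ : MvPolynomial (Fin n) (MvPolynomial (Fin k) R) →+* A :=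
    MvPolynomial.eval₂Hom ψ fun j => φ (MvPolynomial.X j)
  have hΦC : Φ.comp MvPolynomial.C = φ := by
    ext r <;> simp [Φ]
  have hΨC : Ψ.comp MvPolynomial.C = ψ := by
    ext r <;> simp [Ψ]
  let σ := (MvPolynomial.commAlgEquiv R (Fin k) (Fin n)).toRingEquiv.toRingHom
  have hσ : Function.Surjective σ := (MvPolynomial.commAlgEquiv R (Fin k) (Fin n)).surjective
  have e : Ψ.comp σ = Φ := by
    refine MvPolynomial.ringHom_ext (fun r => ?_) fun i => ?_
    · have e1 : (Ψ.comp σ).comp MvPolynomial.C = Φ.comp MvPolynomial.C := by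
        refine MvPolynomial.ringHom_ext (fun r => ?_) fun i => ?_
        · have := congr($h r)
          simp only [RingHom.comp_apply] at this
          simp [Φ, Ψ, σ, this]
        · simp [Φ, Ψ, σ]
      exact congr($e1 r)
    · simp [Φ, Ψ, σ]
  have hΨ : Function.Surjective Ψ := fun x => by
    obtain ⟨y, rfl⟩ := hψ x
    exact ⟨MvPolynomial.C y, congr($hΨC y)⟩
  have f1 : (MvPolynomial.C.comp (MvPolynomial.C : R →+* MvPolynomial (Fin n) R) :
      R →+* MvPolynomial (Fin k) (MvPolynomial (Fin n) R)).Flat := (flat_C n).comp (flat_C k)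
  have f2 : (MvPolynomial.C.comp (MvPolynomial.C : R →+* MvPolynomial (Fin n) R) :
      R →+* MvPolynomial (Fin k) (MvPolynomial (Fin n) R)).FinitePresentation :=
    (finitePresentation_C k).comp (finitePresentation_C n)
  have f3 : (MvPolynomial.C.comp (MvPolynomial.C : R →+* MvPolynomial (Fin k) R) :
      R →+* MvPolynomial (Fin n) (MvPolynomial (Fin k) R)).Flat := (flat_C k).comp (flat_C n)
  have f4 : (MvPolynomial.C.comp (MvPolynomial.C : R →+* MvPolynomial (Fin k) R) :
      R →+* MvPolynomial (Fin n) (MvPolynomial (Fin k) R)).FinitePresentation :=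
    (finitePresentation_C n).comp (finitePresentation_C k)
  have e3 : σ.comp (MvPolynomial.C.comp (MvPolynomial.C : R →+* MvPolynomial (Fin n) R)) =
      MvPolynomial.C.comp (MvPolynomial.C : R →+* MvPolynomial (Fin k) R) := by
    ext r
    simp [σ]
  have k1 := TR_poly_iff a (MvPolynomial.C : R →+* MvPolynomial (Fin n) R) φ hφ (flat_C n)
    (finitePresentation_C n) k Φ hΦC m K
  have k2 := TR_poly_iff a (MvPolynomial.C : R →+* MvPolynomial (Fin k) R) ψ hψ (flat_C k)
    (finitePresentation_C k) n Ψ hΨC m K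
  have k3 := TR_comp_iff a (MvPolynomial.C.comp (MvPolynomial.C : R →+* MvPolynomial (Fin n) R)) σ Ψ
    hσ hΨ f1 f2 (by rw [e3]; exact f3) (by rw [e3]; exact f4) m K
  rw [e] at k3
  exact k1.trans (k3.symm.trans k2.symm)

/-- Two surjections from flat finitely presented algebras. -/
theorem TR_iff {R C : Type u} [CommRing R] [CommRing C] (ρ : R →+* B) (ρ' : R →+* C) (φ : B →+* A)
    (ψ : C →+* A) (hφ : Function.Surjective φ) (hψ : Function.Surjective ψ) (h1 : ρ.Flat)
    (h2 : ρ.FinitePresentation) (h1' : ρ'.Flat) (h2' : ρ'.FinitePresentation)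
    (h : φ.comp ρ = ψ.comp ρ') (m : ℤ) (K : DCoh.D W) : TR a φ m K ↔ TR a ψ m K := by
  have g1 : RingHom.FiniteType ρ := RingHom.FiniteType.of_finitePresentation h2
  have g2 : RingHom.FiniteType ρ' := RingHom.FiniteType.of_finitePresentation h2'
  let _ := ρ.toAlgebra
  let _ := ρ'.toAlgebra
  have g1' : Algebra.FiniteType R B := g1
  have g2' : Algebra.FiniteType R C := g2
  obtain ⟨n, σ, hσ⟩ := Algebra.FiniteType.iff_quotient_mvPolynomial''.1 g1'
  obtain ⟨k, τ, hτ⟩ := Algebra.FiniteType.iff_quotient_mvPolynomial''.1 g2'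
  have eσ : (σ : MvPolynomial (Fin n) R →+* B).comp MvPolynomial.C = ρ := by
    ext r; exact σ.commutes r
  have eτ : (τ : MvPolynomial (Fin k) R →+* C).comp MvPolynomial.C = ρ' := by
    ext r; exact τ.commutes r
  have k1 := TR_comp_iff a (MvPolynomial.C : R →+* MvPolynomial (Fin n) R)
    (σ : MvPolynomial (Fin n) R →+* B) φ hσ hφ (flat_C n) (finitePresentation_C n)
    (by rw [eσ]; exact h1) (by rw [eσ]; exact h2) m K
  have k2 := TR_comp_iff a (MvPolynomial.C : R →+* MvPolynomial (Fin k) R)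
    (τ : MvPolynomial (Fin k) R →+* C) ψ hτ hψ (flat_C k) (finitePresentation_C k)
    (by rw [eτ]; exact h1') (by rw [eτ]; exact h2') m K
  have k3 := TR_poly_poly a n k (φ.comp (σ : MvPolynomial (Fin n) R →+* B))
    (ψ.comp (τ : MvPolynomial (Fin k) R →+* C)) (hφ.comp hσ) (hψ.comp hτ)
    (by rw [RingHom.comp_assoc, eσ, RingHom.comp_assoc, eτ, h]) m K
  exact k1.trans (k3.trans k2.symm)

end Ring

section Affine

variable {W P Q S : Scheme.{u}}

lemma T_iff_TR [IsAffine W] [IsAffine P] [IsAffine S] (i : W ⟶ P) [IsClosedImmersion i]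
    (p : P ⟶ S) [Flat p] [LocallyOfFinitePresentation p] (m : ℤ) (K : DCoh.D W) :
    T i m K ↔ TR W.isoSpec.hom i.appTop.hom m K := by
  have e : i ≫ P.isoSpec.hom = W.isoSpec.hom ≫ Spec.map i.appTop :=
    (Scheme.isoSpec_hom_naturality i).symm
  have f1 : Flat (P.isoSpec.inv ≫ p) := inferInstance
  have f2 : LocallyOfFinitePresentation (P.isoSpec.inv ≫ p) := inferInstance
  have f3 : Flat (P.isoSpec.hom ≫ P.isoSpec.inv ≫ p) := by
    rw [Iso.hom_inv_id_assoc]; infer_instance
  have f4 : LocallyOfFinitePresentation (P.isoSpec.hom ≫ P.isoSpec.inv ≫ p) := by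
    rw [Iso.hom_inv_id_assoc]; infer_instance
  have hs : Function.Surjective i.appTop.hom := i.app_surjective ⊤ (isAffineOpen_top P)
  have c1 : IsClosedImmersion (Spec.map i.appTop) := isClosedImmersion_specMap i.appTop.hom hs
  have key := T_comp_iff i P.isoSpec.hom (P.isoSpec.inv ≫ p) m K
  rw [T_congr e] at key
  exact ⟨fun h _ => key.1 h, fun h => key.2 (h c1)⟩

lemma appTop_eq (p : P ⟶ S) : p.appTop = p.appLE ⊤ ⊤ le_top := by
  rw [Scheme.Hom.appTop, Scheme.Hom.app_eq_appLE]; rfl

/-- The test does not depend on the closed immersion. -/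
theorem T_iff_affine [IsAffine P] [IsAffine Q] [IsAffine S] (i : W ⟶ P) [IsClosedImmersion i]
    (p : P ⟶ S) [Flat p] [LocallyOfFinitePresentation p] (c : W ⟶ Q) [IsClosedImmersion c]
    (q : Q ⟶ S) [Flat q] [LocallyOfFinitePresentation q] (w : i ≫ p = c ≫ q) (m : ℤ)
    (K : DCoh.D W) : T i m K ↔ T c m K := by
  have : IsAffine W := isAffine_of_isAffineHom i
  rw [T_iff_TR i p, T_iff_TR c q]
  refine TR_iff _ p.appTop.hom q.appTop.hom i.appTop.hom c.appTop.hom
    (i.app_surjective ⊤ (isAffineOpen_top P)) (c.app_surjective ⊤ (isAffineOpen_top Q))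
    ?_ ?_ ?_ ?_ ?_ m K
  · rw [appTop_eq]
    exact Flat.flat_appLE (f := p) (isAffineOpen_top S) (isAffineOpen_top P) le_top
  · rw [appTop_eq]
    exact LocallyOfFinitePresentation.finitePresentation_appLE (f := p) (isAffineOpen_top S)
      (isAffineOpen_top P) le_top
  · rw [appTop_eq]
    exact Flat.flat_appLE (f := q) (isAffineOpen_top S) (isAffineOpen_top Q) le_top
  · rw [appTop_eq]
    exact LocallyOfFinitePresentation.finitePresentation_appLE (f := q) (isAffineOpen_top S)
      (isAffineOpen_top Q) le_top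
  · rw [← CommRingCat.hom_comp, ← CommRingCat.hom_comp, ← Scheme.Hom.comp_appTop,
      ← Scheme.Hom.comp_appTop, w]

end Affine

end K240.ChartChange
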