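import Groth.Agent.KSix.K240.FibRing
import Groth.Agent.KSix.K240.AmpLoc
import Groth.Agent.KSix.K239.AmpNhd
import Groth.Agent.S1483

/-!
# Tor amplitude by fibres

`Fib f g a b x K`: the derived base change of `K_x` to `O_{Y, f x} / m_{g (f x)}` has tor amplitude in `[a, b]`.
`at_of_fib`: for `p : V ⟶ Y`, `g : Y ⟶ S` flat and locally of finite presentation, `G` on `V` with cohomology in
`[a, b]`, `(a-1)`-pseudo-coherent, of tor amplitude in `[a, b]` at `y` over `S` and along the fibre, is of tor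
amplitude in `[a, b]` at `y` over `Y`.
-/

set_option autoImplicit false
universe u
open CategoryTheory CategoryTheory.Limits AlgebraicGeometry
attribute [local instance] HasDerivedCategory.standard

namespace K240.FibAmp

open DerivedCategory Groth.Agent Groth.Agent.Dcoh Groth.Agent.Dcoh.Stalk K238.StalkD K238.PushClosed
  Groth.Agent.PerfA Groth.Agent.PerfA.Restrict Groth.Agent.PerfC.PcLocal K240.AmpLoc

variable {X Y S U V : Scheme.{u}}

/-- The ideal of the fibre. -/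
noncomputable abbrev J (g : Y ⟶ S) (y : Y) : Ideal (Y.presheaf.stalk y) :=
  Ideal.map (g.stalkMap y).hom (IsLocalRing.maximalIdeal (S.presheaf.stalk (g.base y)))

/-- The derived base change of `K_x` to the fibre has tor amplitude in `[a, b]`. -/
def Fib (f : X ⟶ Y) (g : Y ⟶ S) (a b : ℤ) (x : X) (K : DCoh.D X) : Prop :=
  ∀ [DRing.HasLBaseChange (Ideal.Quotient.mk (J g (f.base x)))],
    DRing.HasTorAmplitudeIn (Y.presheaf.stalk (f.base x) ⧸ J g (f.base x)) a b
      ((DRing.LBaseChange (Ideal.Quotient.mk (J g (f.base x)))).obj ((stalkOverD f x).obj K))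

lemma fib_of_iso {f : X ⟶ Y} {g : Y ⟶ S} {a b : ℤ} {x : X} {K L : DCoh.D X} (e : K ≅ L) (h : Fib f g a b x K) :
    Fib f g a b x L := by
  intro _
  exact torAmp_of_iso ((DRing.LBaseChange _).mapIso ((stalkOverD f x).mapIso e)) h

lemma fib_congr {f f' : X ⟶ Y} (w : f = f') (g : Y ⟶ S) (a b : ℤ) (x : X) (K : DCoh.D X) :
    Fib f g a b x K ↔ Fib f' g a b x K := by
  subst w
  exact Iff.rfl

/-- `(K|_U)_x ≅ K_{j x}` over the local ring of the base. -/
noncomputable def restrictStalkOverD (j : U ⟶ X) [IsOpenImmersion j] (f : X ⟶ Y) (x : U) (K : DCoh.D X) :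
    (stalkOverD (j ≫ f) x).obj ((restrictD j).obj K) ≅ (stalkOverD f (j.base x)).obj K :=
  (stalkOverComp j f x ((restrictD j).obj K)).symm ≪≫
    (DRing.restrictD (f.stalkMap (j.base x)).hom).mapIso ((restrictStalkD j x).app K)

lemma fib_iff_of_iso {A : Type u} [CommRing A] (I : Ideal A) {a b : ℤ} {K L : Dual.D A} (e : K ≅ L) :
    (∀ [DRing.HasLBaseChange (Ideal.Quotient.mk I)], DRing.HasTorAmplitudeIn (A ⧸ I) a b
      ((DRing.LBaseChange (Ideal.Quotient.mk I)).obj K)) ↔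
    (∀ [DRing.HasLBaseChange (Ideal.Quotient.mk I)], DRing.HasTorAmplitudeIn (A ⧸ I) a b
      ((DRing.LBaseChange (Ideal.Quotient.mk I)).obj L)) :=
  ⟨fun h _ => torAmp_of_iso ((DRing.LBaseChange _).mapIso e) h,
    fun h _ => torAmp_of_iso ((DRing.LBaseChange _).mapIso e.symm) h⟩

theorem fib_restrict_iff (j : U ⟶ X) [IsOpenImmersion j] (f : X ⟶ Y) (g : Y ⟶ S) (a b : ℤ) (x : U)
    (K : DCoh.D X) : Fib (j ≫ f) g a b x ((restrictD j).obj K) ↔ Fib f g a b (j.base x) K :=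
  fib_iff_of_iso (J g (f.base (j.base x))) (restrictStalkOverD j f x K)

theorem fib_push_iff (i : X ⟶ V) (hi : Topology.IsInducing i) (p : V ⟶ Y) (g : Y ⟶ S) (a b : ℤ) (x : X)
    (F : CochainComplex X.Modules ℤ) :
    Fib p g a b (i.base x) (DCoh.toD V
      (((Scheme.Modules.pushforward i).mapHomologicalComplex (ComplexShape.up ℤ)).obj F)) ↔
      Fib (i ≫ p) g a b x (DCoh.toD X F) :=
  fib_iff_of_iso (J g (p.base (i.base x))) (pushStalkOverD i hi p x F)

/-- Flatness over `S` of a stalk, through `Y`. -/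
theorem flatOver_stalkOver (f : X ⟶ Y) (g : Y ⟶ S) (M : X.Modules) (x : X)
    (h : FlatMod.IsFlatOverAt (f ≫ g) M x) :
    FibRing.flatOver (g.stalkMap (f.base x)).hom ((DerSch.stalkOver f x).obj M) := by
  let _ : Module (S.presheaf.stalk (g.base (f.base x))) (M.presheaf.stalk x) :=
    FlatMod.moduleStalkOver (f ≫ g) M x
  let e : M.presheaf.stalk x ≃ₗ[S.presheaf.stalk (g.base (f.base x))]
      (ModuleCat.restrictScalars.{u} (g.stalkMap (f.base x)).hom).obj ((DerSch.stalkOver f x).obj M) :=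
    { AddEquiv.refl (M.presheaf.stalk x) with
      map_smul' := fun r m => by
        change ((f ≫ g).stalkMap x).hom r • (m : M.presheaf.stalk x) =
          (f.stalkMap x).hom ((g.stalkMap (f.base x)).hom r) • (m : M.presheaf.stalk x)
        rw [Scheme.Hom.stalkMap_comp]
        rfl }
  have h' : Module.Flat (S.presheaf.stalk (g.base (f.base x))) (M.presheaf.stalk x) := h
  exact Module.Flat.of_linearEquiv e.symm

/-- The fibre criterion for a finitely presented module. -/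
theorem flatAt_of_fib (f : X ⟶ Y) (g : Y ⟶ S) [LocallyOfFinitePresentation (f ≫ g)] [LocallyOfFiniteType g]
    (M : X.Modules) (hq : Coh.IsQCoh M) (hfp : CohB1.IsFP M) (x : X) (h : FlatMod.IsFlatOverAt (f ≫ g) M x)
    (h' : Module.Flat (Y.presheaf.stalk (f.base x) ⧸ J g (f.base x))
      (TensorProduct (Y.presheaf.stalk (f.base x)) (Y.presheaf.stalk (f.base x) ⧸ J g (f.base x))
        ((DerSch.stalkOver f x).obj M))) : FlatMod.IsFlatOverAt f M x := by
  rcases subsingleton_or_nontrivial (M.presheaf.stalk x) with hx | hx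
  · let _ := FlatMod.moduleStalkOver f M x
    change Module.Flat (Y.presheaf.stalk (f.base x)) (M.presheaf.stalk x)
    infer_instance
  · refine ((S1483.result f g M hq hfp x hx).1 ⟨h, ?_⟩).2
    let _ := FlatMod.moduleStalkOver f M x
    have h2 : Module.Flat (Y.presheaf.stalk (f.base x) ⧸ J g (f.base x))
      (TensorProduct (Y.presheaf.stalk (f.base x)) (Y.presheaf.stalk (f.base x) ⧸ J g (f.base x))
        (M.presheaf.stalk x)) := h'
    exact Module.Flat.of_linearEquiv (LinearEquiv.extendScalarsOfSurjective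
        (S := Y.presheaf.stalk (f.base x) ⧸ J g (f.base x)) Ideal.Quotient.mk_surjective
        (TensorProduct.quotTensorEquivQuotSMul (M.presheaf.stalk x) (J g (f.base x)))).symm

theorem at_of_fib (p : V ⟶ Y) (g : Y ⟶ S) [Flat p] [LocallyOfFinitePresentation p] [Flat g]
    [LocallyOfFinitePresentation g] (G : CochainComplex V.Modules ℤ) (a b : ℤ) (y : V)
    (hpc : DCoh.IsPseudoCoherentD (a - 1) (DCoh.toD V G))
    (hG : ∀ i, i < a ∨ b < i → IsZero (DCoh.HD (DCoh.toD V G) i))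
    (hy : DerSch.HasTorAmplitudeAt (p ≫ g) a b G y) (hfib : Fib p g a b y (DCoh.toD V G)) :
    DerSch.HasTorAmplitudeAt p a b G y := by
  obtain ⟨N, hyN, E, α, ⟨⟨a', B, hab⟩, hE⟩, h1, h2⟩ := (pc_iff _ _).1 hpc y
  have hz : ∀ i, i < a → IsZero (DCoh.HD ((restrictD N.ι).obj (DCoh.toD V G)) i) := fun i hi =>
    ((Scheme.Modules.restrictFunctor N.ι).map_isZero (hG i (Or.inl hi))).of_iso
      (Dcoh.LocalD.HDRestrict N.ι (DCoh.toD V G) i)
  obtain ⟨e⟩ := Dcoh.BddCx.nonempty_iso_truncGE E _ a hz α (fun i hi => h1 i (by omega))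
  set T := E.truncGE a with hT
  have hTz : ∀ i, i < a ∨ B < i → IsZero (T.X i) := by
    rintro i (hi | hi)
    · exact T.isZero_of_isStrictlyGE a i hi
    · exact Dcoh.BddCx.truncGE_isZero_of_lt E a B (fun i hi => hab i (Or.inr hi)) i hi
  have hTfp : CohB1.IsFP (T.X a) := by
    let Pr : ObjectProperty (N : Scheme.{u}).Modules := fun M => CohB1.IsFP M
    have hPr : Pr.IsClosedUnderIsomorphisms := ⟨fun e h => PerfC.FPSections.isFP_of_iso e h⟩
    exact Dcoh.BddCx.prop_truncGE_X (P := Pr)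
      (fun M hM => Desc.FinLocFreeSections.isFP_of_isFinLocFree (isFinLocFree_of_isZero hM)) E a
      (PerfC.RelPerfPt.isFP_opcycles E hE a)
        (fun i _ => Desc.FinLocFreeSections.isFP_of_isFinLocFree (hE i)) a
  have hTfl : ∀ i, a < i → FlatMod.IsFlatOver (N.ι ≫ p) (T.X i) := fun i hi =>
    Models2.FlatIso.isFlatOver_of_iso _ (E.truncGEXIso a i hi).symm
      (PerfC.RelFlat.isFlatOver_of_isFlat (N.ι ≫ p) (Dcoh.Spread.isFlat_of_isFinLocFree (hE i)))
  have hTfl' : ∀ i, a < i → FlatMod.IsFlatOver ((N.ι ≫ p) ≫ g) (T.X i) := fun i hi =>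
    Models2.FlatIso.isFlatOver_of_iso _ (E.truncGEXIso a i hi).symm
      (PerfC.RelFlat.isFlatOver_of_isFlat ((N.ι ≫ p) ≫ g) (Dcoh.Spread.isFlat_of_isFinLocFree (hE i)))
  have e' : DCoh.toD N (((Scheme.Modules.restrictFunctor N.ι).mapHomologicalComplex
      (ComplexShape.up ℤ)).obj G) ≅ DCoh.toD N T := (restrictDQ N.ι G).symm ≪≫ e
  -- flatness over `S` at the point
  have hat : DerSch.HasTorAmplitudeAt ((N.ι ≫ p) ≫ g) a b T ⟨y, hyN⟩ := by
    rw [Category.assoc]
    exact K239.StalkAmp.at_of_iso (N.ι ≫ p ≫ g) e' _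
      ((K254.StalkTor.hasTorAmplitudeAt_restrict_iff (p ≫ g) N.ι G a b ⟨y, hyN⟩).2 hy)
  have hya : FlatMod.IsFlatOverAt ((N.ι ≫ p) ≫ g) (T.X a) ⟨y, hyN⟩ := by
    refine K239.AmpRing.flat_X_of_torAmp ((DerSch.stalkCxOver ((N.ι ≫ p) ≫ g) ⟨y, hyN⟩).obj T) a b B ?_ ?_ hat
    · exact fun i hi => (DerSch.stalkOver ((N.ι ≫ p) ≫ g) _).map_isZero (hTz i hi)
    · exact fun i hi => hTfl' i hi _
  -- flatness over `Y` at the point
  have hfib' : Fib (N.ι ≫ p) g a b ⟨y, hyN⟩ (DCoh.toD N T) :=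
    fib_of_iso e ((fib_restrict_iff N.ι p g a b ⟨y, hyN⟩ (DCoh.toD V G)).2 @hfib)
  have hfl : FlatMod.IsFlatOverAt (N.ι ≫ p) (T.X a) ⟨y, hyN⟩ := by
    refine flatAt_of_fib (N.ι ≫ p) g (T.X a) (PerfC.FPSections.isQCoh_of_isFP hTfp) hTfp ⟨y, hyN⟩ hya ?_
    have : DRing.HasLBaseChange (Ideal.Quotient.mk (J g ((N.ι ≫ p).base ⟨y, hyN⟩))) :=
      LoccohB.LBC.hasLBaseChange _
    refine FibRing.flat_quot_of_torAmp (g.stalkMap ((N.ι ≫ p).base ⟨y, hyN⟩)).hom
      (IsLocalRing.maximalIdeal _) (Flat.stalkMap g _) ((DerSch.stalkCxOver (N.ι ≫ p) ⟨y, hyN⟩).obj T) a b B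
      (fun i hi => (DerSch.stalkOver (N.ι ≫ p) _).map_isZero (hTz i hi)) (fun i hi => hTfl i hi _)
      (flatOver_stalkOver (N.ι ≫ p) g (T.X a) _ hya) ?_
    exact torAmp_of_iso ((DRing.LBaseChange _).mapIso (stalkOverQ (N.ι ≫ p) ⟨y, hyN⟩ T).symm) hfib'
  refine K239.AmpOpen.at_upper p (b' := B) ?_ fun i hi => hG i (Or.inr hi)
  have h3 : DerSch.HasTorAmplitudeAt (N.ι ≫ p) a B T ⟨y, hyN⟩ := by
    refine K239.StalkAmp.at_of_flat (N.ι ≫ p) (fun i hi => hTz i hi) _ fun i => ?_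
    rcases lt_trichotomy i a with hi | rfl | hi
    · exact PerfC.RelFlat.isFlatOver_of_isZero _ (hTz i (Or.inl hi)) _
    · exact hfl
    · exact hTfl i hi _
  exact (K254.StalkTor.hasTorAmplitudeAt_restrict_iff p N.ι G a B ⟨y, hyN⟩).1
    (K239.StalkAmp.at_of_iso (N.ι ≫ p) e'.symm _ h3)

end K240.FibAmp
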