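import Groth.Agent.KSix.K240.FibAmp

/-!
# The fibre criterion for relative perfection: the point condition
-/

set_option autoImplicit false
universe u
open CategoryTheory CategoryTheory.Limits AlgebraicGeometry
attribute [local instance] HasDerivedCategory.standard

namespace K240.FibCrit

open DerivedCategory Groth.Agent Groth.Agent.PerfA Groth.Agent.PerfA.Restrict Groth.Agent.PerfC.PcLocal
open Groth.Agent.PerfC.ClosedImmPc K240.PushTest K240.RelData K240.RelChart K240.RelBasic
open K239.StalkAmp K239.AmpPush K239.AmpNhd K240.FibAmp K238.StalkD K238.PushClosed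

variable {X Y S : Scheme.{u}}

/-- From the derived base change of the complex of stalks. -/
theorem fib_of_stalk (f : X ⟶ Y) (g : Y ⟶ S) (F : CochainComplex X.Modules ℤ) (a b : ℤ) (x : X)
    [DRing.HasLBaseChange (Ideal.Quotient.mk (J g (f.base x)))]
    (h : DRing.HasTorAmplitudeIn (Y.presheaf.stalk (f.base x) ⧸ J g (f.base x)) a b
      ((DRing.LBaseChange (Ideal.Quotient.mk (J g (f.base x)))).obj
        (DRing.toD ((DerSch.stalkCxOver f x).obj F)))) : Fib f g a b x (DCoh.toD X F) := by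
  intro _
  exact torAmp_of_iso ((DRing.LBaseChange _).mapIso (stalkOverQ f x F)) h

theorem fib_restrict (U : X.Opens) (f : X ⟶ Y) (g : Y ⟶ S) (F : CochainComplex X.Modules ℤ) (a b : ℤ)
    (x : U) (h : Fib f g a b (U.ι.base x) (DCoh.toD X F)) :
    Fib (U.ι ≫ f) g a b x (DCoh.toD U ((DCoh.restrictCx U).obj F)) :=
  fib_of_iso (restrictDQ U.ι F) ((fib_restrict_iff U.ι f g a b x (DCoh.toD X F)).2 @h)

/-- Amplitude relative to a composite with a flat morphism. -/
theorem at_comp (f : X ⟶ Y) (g : Y ⟶ S) [Flat g] (F : CochainComplex X.Modules ℤ) (a b : ℤ) (x : X)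
    (h : DerSch.HasTorAmplitudeAt f a b F x) : DerSch.HasTorAmplitudeAt (f ≫ g) a b F x := by
  rw [hasTorAmplitudeAt_iff] at h ⊢
  exact torAmp_of_iso (stalkOverComp f g x (DCoh.toD X F))
    (Flat2C.TorAmpRestr.hasTorAmplitudeIn_restrict (g.stalkMap (f.base x)).hom
      (K240.AmpLoc.flat_restrict _ (Flat.stalkMap g _)) a b _ h)

/-- The point condition. -/
theorem at_of_rel (f : X ⟶ Y) (g : Y ⟶ S) [LocallyOfFiniteType f] [Flat g] [LocallyOfFinitePresentation g]
    (F : CochainComplex X.Modules ℤ) (a b : ℤ) (x : X)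
    (hpc : DerSch.IsPseudoCoherentRel f (a - 1) (DCoh.toD X F))
    (hz : ∀ i, i < a ∨ b < i → IsZero (DCoh.HD (DCoh.toD X F) i))
    (hS : DerSch.HasTorAmplitude (f ≫ g) a b F) (hfib : Fib f g a b x (DCoh.toD X F)) :
    DerSch.HasTorAmplitudeAt f a b F x := by
  obtain ⟨D, w, rfl, -, -⟩ := exists_datum f x ⊤ trivial
  let G := pushC D.i (resC D.j F)
  have h1 : DCoh.IsPseudoCoherentD (a - 1) (DCoh.toD D.P G) :=
    pc_of_iso (testCxIso D F) (test_of_isPseudoCoherentRel hpc D)
  have h2 : ∀ i, i < a ∨ b < i → IsZero (DCoh.HD (DCoh.toD D.P G) i) := fun i hi => by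
    have e1 := (DerivedCategory.homologyFunctor _ i).mapIso (testCxIso D F)
    refine IsZero.of_iso ?_ e1.symm
    refine IsZero.of_iso ?_ (pushHD D.i _ i)
    refine (Scheme.Modules.pushforward D.i).map_isZero ?_
    exact ((Scheme.Modules.restrictFunctor D.j).map_isZero (hz i hi)).of_iso
      (Dcoh.LocalD.HDRestrict D.j (DCoh.toD X F) i)
  have h3 : DerSch.HasTorAmplitudeAt (D.p ≫ g) a b G (D.i w) := by
    rw [at_push_iff D.i D.i.isClosedEmbedding.isInducing, ← Category.assoc, D.w, Category.assoc]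
    exact (K254.StalkTor.hasTorAmplitudeAt_restrict_iff (f ≫ g) D.j F a b w).2 (hS _)
  have h4 : Fib D.p g a b (D.i w) (DCoh.toD D.P G) := by
    refine (fib_push_iff D.i D.i.isClosedEmbedding.isInducing D.p g a b w (resC D.j F)).2 ?_
    refine (fib_congr D.w g a b w _).2 ?_
    exact fib_of_iso (restrictDQ D.j F) ((fib_restrict_iff D.j f g a b w (DCoh.toD X F)).2 @hfib)
  exact (at_datum_iff D F a b w).1 (at_of_fib D.p g G a b (D.i w) h1 h2 h3 @h4)

end K240.FibCrit
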