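import Groth.Agent.DRing.K227.LbcFlat
import Groth.Agent.KSix.K239.AmpRing
import Mathlib.LinearAlgebra.TensorProduct.Quotient

/-!
# Derived base change to a fibre

`φ : A → B` flat, `I` an ideal of `A`, `J = I B`. On bounded above complexes of `B`-modules flat over `A` the derived
base change along `B → B ⧸ J` is computed termwise (`nonempty_lbc_iso`).
`flat_quot_of_torAmp`: the consequence for the bottom term.
-/

set_option autoImplicit false

universe u

open CategoryTheory CategoryTheory.Limits CategoryTheory.Functor MonoidalCategory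
open scoped TensorProduct

attribute [local instance] HasDerivedCategory.standard

namespace K240.FibRing

open DerivedCategory Groth.Agent.LoccohB Groth.Agent.LoccohB.LBC Groth.Agent.LoccohB.BCUnit
  Groth.Agent.PerfC.AcyclicBdd Groth.Agent K227.LbcFlat

section Quot

variable {R M N : Type u} [CommRing R] [AddCommGroup M] [AddCommGroup N] [Module R M] [Module R N]

lemma one_tmul_eq_zero_iff (I : Ideal R) (m : M) :
    ((1 : R ⧸ I) ⊗ₜ[R] m = 0) ↔ m ∈ I • (⊤ : Submodule R M) := by
  rw [← (TensorProduct.quotTensorEquivQuotSMul M I).map_eq_zero_iff,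
    TensorProduct.quotTensorEquivQuotSMul_mk_one_tmul, Submodule.Quotient.mk_eq_zero]

lemma exists_one_tmul (I : Ideal R) (t : (R ⧸ I) ⊗[R] M) : ∃ m : M, t = (1 : R ⧸ I) ⊗ₜ[R] m := by
  obtain ⟨m, hm⟩ := Submodule.Quotient.mk_surjective _ (TensorProduct.quotTensorEquivQuotSMul M I t)
  refine ⟨m, (TensorProduct.quotTensorEquivQuotSMul M I).injective ?_⟩
  rw [TensorProduct.quotTensorEquivQuotSMul_mk_one_tmul, hm]

lemma lTensor_quot_injective_iff (I : Ideal R) (f : M →ₗ[R] N) :
    Function.Injective (f.lTensor (R ⧸ I)) ↔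
      ∀ m : M, f m ∈ I • (⊤ : Submodule R N) → m ∈ I • (⊤ : Submodule R M) := by
  rw [injective_iff_map_eq_zero]
  constructor
  · intro h m hm
    rw [← one_tmul_eq_zero_iff]
    refine h _ ?_
    rw [LinearMap.lTensor_tmul, one_tmul_eq_zero_iff]
    exact hm
  · intro h t ht
    obtain ⟨m, rfl⟩ := exists_one_tmul I t
    rw [LinearMap.lTensor_tmul, one_tmul_eq_zero_iff] at ht
    rw [one_tmul_eq_zero_iff]
    exact h m ht

end Quot

section Alg

variable {A B : Type u} [CommRing A] [CommRing B] [Algebra A B] {M N : Type u} [AddCommGroup M]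
  [AddCommGroup N] [Module B M] [Module B N] [Module A M] [Module A N] [IsScalarTower A B M]
  [IsScalarTower A B N]

lemma mem_smul_top_iff (I : Ideal A) (m : M) :
    m ∈ I.map (algebraMap A B) • (⊤ : Submodule B M) ↔ m ∈ I • (⊤ : Submodule A M) := by
  have h := Ideal.smul_restrictScalars (R := A) (S := B) (M := M) I ⊤
  rw [Submodule.restrictScalars_top] at h
  rw [← h]
  rfl

lemma lTensor_injective_of (I : Ideal A) (f : M →ₗ[B] N)
    (h : Function.Injective ((f.restrictScalars A).lTensor (A ⧸ I))) :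
    Function.Injective (f.lTensor (B ⧸ I.map (algebraMap A B))) := by
  rw [lTensor_quot_injective_iff] at h ⊢
  intro m hm
  rw [mem_smul_top_iff] at hm ⊢
  exact h m hm

end Alg

section Main

variable {A B : Type u} [CommRing A] [CommRing B] (φ : A →+* B) (I : Ideal A)

/-- The class of `B`-modules flat over `A`. -/
def flatOver : ObjectProperty (ModuleCat.{u} B) := fun M =>
  Module.Flat A ((ModuleCat.restrictScalars.{u} φ).obj M)

lemma lTensor_injective_restrict (S : ShortComplex (ModuleCat.{u} B)) (h : S.ShortExact)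
    (h₃ : flatOver φ S.X₃) : Function.Injective (S.f.hom.lTensor (B ⧸ I.map φ)) := by
  let _ := φ.toAlgebra
  have h1 := lTensor_injective (S.map (ModuleCat.restrictScalars.{u} φ))
    (h.map_of_exact (ModuleCat.restrictScalars.{u} φ)) h₃ (A ⧸ I)
  let _ : Module A S.X₁ := Module.compHom S.X₁ φ
  let _ : Module A S.X₂ := Module.compHom S.X₂ φ
  have t1 : IsScalarTower A B S.X₁ := ⟨fun a b m => by
    rw [Algebra.smul_def, mul_smul]; rfl⟩
  have t2 : IsScalarTower A B S.X₂ := ⟨fun a b m => by
    rw [Algebra.smul_def, mul_smul]; rfl⟩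
  exact lTensor_injective_of I S.f.hom h1

/-- `B`-modules flat over `A` are adapted to `- ⊗_B B ⧸ I B`. -/
theorem adapted : Adapted (ModuleCat.extendScalars.{u, u, u} (Ideal.Quotient.mk (I.map φ))) (flatOver φ) where
  zero M h := by
    have := ModuleCat.subsingleton_of_isZero h
    have h1 : Subsingleton ((ModuleCat.restrictScalars.{u} φ).obj M) := this
    unfold flatOver
    infer_instance
  ker S h h₂ h₃ := flatP_ker (S.map (ModuleCat.restrictScalars.{u} φ))
    (h.map_of_exact (ModuleCat.restrictScalars.{u} φ)) h₂ h₃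
  mono S h h₃ := by
    rw [ModuleCat.mono_iff_injective]
    have h5 := lTensor_injective_restrict φ I S h h₃
    have h6 : ⇑((ModuleCat.extendScalars.{u, u, u} (algebraMap B (B ⧸ I.map φ))).map S.f).hom =
      (FlatLBC.extEquiv B (B ⧸ I.map φ) _) ∘ (LinearMap.lTensor (B ⧸ I.map φ) S.f.hom) ∘
        (FlatLBC.extEquiv B (B ⧸ I.map φ) _).symm := by
      funext x
      obtain ⟨t, rfl⟩ := (FlatLBC.extEquiv B (B ⧸ I.map φ) _).surjective x
      dsimp only [Function.comp_apply]
      rw [LinearEquiv.symm_apply_apply]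
      induction t using TensorProduct.induction_on with
      | zero => simp only [_root_.map_zero]
      | add x y hx hy => simp only [_root_.map_add, hx, hy]
      | tmul c m => rfl
    have h7 : Function.Injective
        ⇑((ModuleCat.extendScalars.{u, u, u} (algebraMap B (B ⧸ I.map φ))).map S.f).hom := by
      rw [h6]
      exact (FlatLBC.extEquiv B (B ⧸ I.map φ) _).injective.comp
        (h5.comp (FlatLBC.extEquiv B (B ⧸ I.map φ) _).symm.injective)
    exact h7

lemma flatOver_biprod (M N : ModuleCat.{u} B) (hM : flatOver φ M) (hN : flatOver φ N) :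
    flatOver φ (M ⊞ N) := by
  have h := ((ShortComplex.Splitting.ofHasBinaryBiproduct M N).shortExact).map_of_exact
    (ModuleCat.restrictScalars.{u} φ)
  exact @Ega3A.FlatSES.flat_middle _ _ _ _ _ _ _ _ _ _ _ _ _ h.moduleCat_injective_f
    ((ShortComplex.ShortExact.moduleCat_exact_iff_function_exact _).1 h.exact)
    h.moduleCat_surjective_g hM hN

lemma flatOver_of_flat (hφ : φ.Flat) (M : ModuleCat.{u} B) (hM : Module.Flat B M) : flatOver φ M := by
  let _ := φ.toAlgebra
  have : Module.Flat A B := hφ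
  let _ : Module A M := Module.compHom M φ
  have : IsScalarTower A B M := ⟨fun a b m => by
    rw [Algebra.smul_def, mul_smul]; rfl⟩
  exact Module.Flat.trans A B M

/-- Derived base change to `B ⧸ I B` of complexes of `B`-modules flat over `A`. -/
theorem nonempty_lbc_iso (hφ : φ.Flat) [DRing.HasLBaseChange (Ideal.Quotient.mk (I.map φ))] (E : DRing.Cx B)
    (b : ℤ) (hb : DRing.VanishesAbove E b) (hE : ∀ i, flatOver φ (E.X i)) :
    Nonempty ((DRing.LBaseChange (Ideal.Quotient.mk (I.map φ))).obj (DRing.toD E) ≅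
      DRing.toD ((extCx (Ideal.Quotient.mk (I.map φ))).obj E)) := by
  have := preservesFiniteColimits_extendScalars (Ideal.Quotient.mk (I.map φ))
  obtain ⟨L, p, h1, h2, h3⟩ := Flat2C.TorAmpRestr.exists_projective_resolution E b
    (fun i hi => HomologicalComplex.ExactAt.of_isZero (hb i hi))
  have : L.IsStrictlyLE b := by
    rw [CochainComplex.isStrictlyLE_iff]
    exact fun i hi => h1 i hi
  have : L.IsKProjective := CochainComplex.isKProjective_of_projective L b
  have := BCFlat.isIso_lbcQCounit_of_res (Ideal.Quotient.mk (I.map φ)) p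
    ((adapted φ I).quasiIso_map (flatOver_biprod φ) p b h1 hb
    (fun i => flatOver_of_flat φ hφ _ (flatP_of_projective _ (h2 i))) hE)
  exact ⟨asIso ((lbcQCounit (Ideal.Quotient.mk (I.map φ))).app E)⟩

/-- The bottom term of a complex whose derived base change to `B ⧸ I B` has tor amplitude in `[a, b]`. -/
theorem flat_quot_of_torAmp (hφ : φ.Flat) [DRing.HasLBaseChange (Ideal.Quotient.mk (I.map φ))] (T : DRing.Cx B)
    (a b c : ℤ) (h0 : ∀ i, i < a ∨ c < i → IsZero (T.X i)) (hf : ∀ i, a < i → Module.Flat B (T.X i))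
    (ha : flatOver φ (T.X a))
    (h : DRing.HasTorAmplitudeIn (B ⧸ I.map φ) a b
      ((DRing.LBaseChange (Ideal.Quotient.mk (I.map φ))).obj (DRing.toD T))) :
    Module.Flat (B ⧸ I.map φ) ((B ⧸ I.map φ) ⊗[B] (T.X a)) := by
  have hE : ∀ i, flatOver φ (T.X i) := by
    intro i
    rcases lt_trichotomy i a with hi | rfl | hi
    · exact (adapted φ I).zero _ (h0 i (Or.inl hi))
    · exact ha
    · exact flatOver_of_flat φ hφ _ (hf i hi)
  obtain ⟨e⟩ := nonempty_lbc_iso φ I hφ T c (fun i hi => h0 i (Or.inr hi)) hE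
  have h1 := K239.AmpRing.flat_X_of_torAmp ((extCx (Ideal.Quotient.mk (I.map φ))).obj T) a b c
    (fun i hi => (ModuleCat.extendScalars.{u, u, u} (Ideal.Quotient.mk (I.map φ))).map_isZero (h0 i hi)) (fun i hi => ?_) (K227.PerfFlat.torAmp_of_iso e h)
  · have h2 : Module.Flat (B ⧸ I.map φ)
        ((ModuleCat.extendScalars.{u, u, u} (algebraMap B (B ⧸ I.map φ))).obj (T.X a)) := h1
    exact Module.Flat.of_linearEquiv (FlatLBC.extEquiv B (B ⧸ I.map φ) (T.X a))
  · have := hf i hi
    exact Module.Flat.of_linearEquiv (FlatLBC.extEquiv B (B ⧸ I.map φ) (T.X i)).symm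

end Main

end K240.FibRing
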