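import Groth.Agent.KSix.K240.RelComp
import Groth.Agent.DerCA.K365.Dev

/-!
# `(-1)`-pseudo-coherent morphisms are the morphisms locally of finite presentation
-/

set_option autoImplicit false
universe u
open CategoryTheory CategoryTheory.Limits AlgebraicGeometry CategoryTheory.Pretriangulated
open Groth.Agent.PerfA Groth.Agent.PerfA.Restrict Groth.Agent.PerfC.PcLocal
open Groth.Agent.PerfC.ClosedImmPc K240.PushTest K240.ChartChange K240.RelData K240.RelChart
open Groth.Agent.PerfB.FlatPull K240.RelBasic K240.RelFlat K240.RelComp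
attribute [local instance] HasDerivedCategory.standard

namespace K240.NegOne

section Spec

variable {R S : CommRingCat.{u}} (φ : R ⟶ S)

/-- `S` as an `R`-module. -/
noncomputable abbrev resMod : ModuleCat.{u} R :=
  (ModuleCat.restrictScalars.{u} φ.hom).obj (ModuleCat.of S S)

/-- `Spec(φ)_* O` is the sheaf associated to the module `S`. -/
noncomputable def pushSpecIso :
    (Scheme.Modules.pushforward (Spec.map φ)).obj (Coh.structureModule (Spec S)) ≅
      (tilde.functor R).obj (resMod φ) :=
  (Scheme.Modules.pushforward (Spec.map φ)).mapIso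
      (AlgebraicGeometry.tildeSelf (R := S)).symm ≪≫
    (Groth.Agent.PerfC.TildePush.tildePushIso φ).app (ModuleCat.of S S)

/-- Pseudo-coherence of `Spec(φ)_* O` in terms of the module `S`. -/
lemma pc_pushSpec_iff (m : ℤ) :
    DCoh.IsPseudoCoherentD m (DCoh.inD (Spec R)
      ((Scheme.Modules.pushforward (Spec.map φ)).obj (Coh.structureModule (Spec S)))) ↔
      DRing.IsPseudoCoherent R m
        ((DerivedCategory.singleFunctor (ModuleCat.{u} R) 0).obj (resMod φ)) := by
  rw [← Groth.Agent.PerfA.GB3.isPseudoCoherentD_tildeD_iff R]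
  have e : DCoh.inD (Spec R)
      ((Scheme.Modules.pushforward (Spec.map φ)).obj (Coh.structureModule (Spec S))) ≅
      (DCoh.tildeD R).obj ((DerivedCategory.singleFunctor (ModuleCat.{u} R) 0).obj (resMod φ)) :=
    (DerivedCategory.singleFunctor _ 0).mapIso (pushSpecIso φ) ≪≫
      (((tilde.functor R).mapDerivedCategorySingleFunctor 0).app (resMod φ)).symm
  exact ⟨pc_of_iso e, pc_of_iso e.symm⟩

lemma pc_pushSpec_negOne_iff (hφ : Function.Surjective φ.hom) :
    DCoh.IsPseudoCoherentD (-1) (DCoh.inD (Spec R)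
      ((Scheme.Modules.pushforward (Spec.map φ)).obj (Coh.structureModule (Spec S)))) ↔
      φ.hom.FinitePresentation := by
  rw [pc_pushSpec_iff]
  have h := K365.Dev.pcModule_neg_one_iff (A := R) (resMod φ)
  refine h.trans ?_
  let _ := φ.hom.toAlgebra
  change Module.FinitePresentation R S ↔ Algebra.FinitePresentation R S
  constructor
  · intro h1
    have h2 : (RingHom.ker φ.hom).FG := by
      have := Module.FinitePresentation.fg_ker (R := R) (M := R) (N := S)
        (Algebra.linearMap R S) hφ
      exact this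
    exact Algebra.FinitePresentation.of_surjective (f := Algebra.ofId R S) hφ h2
  · intro h1
    have h2 : (RingHom.ker (Algebra.ofId R S)).FG :=
      Algebra.FinitePresentation.ker_fG_of_surjective (Algebra.ofId R S) hφ
    exact (Module.FinitePresentation.fg_ker_iff (Algebra.linearMap R S) hφ).1 h2

end Spec

section Scheme

variable {X Y : Scheme.{u}} (f : X ⟶ Y)

/-- The datum attached to a chart, with affine spectra. -/
noncomputable def specDatum {U : X.Opens} {V : Y.Opens} (hU : IsAffineOpen U)
    (hV : IsAffineOpen V) (h : U ≤ f ⁻¹ᵁ V) {n : ℕ} (φ : MvPolynomial (Fin n) Γ(Y, V) →+* Γ(X, U))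
    (hφ : DerSch.IsChart f U V h φ) : Datum f where
  W := Spec Γ(X, U)
  P := Spec (CommRingCat.of (MvPolynomial (Fin n) Γ(Y, V)))
  j := hU.fromSpec
  i := Spec.map (CommRingCat.ofHom φ)
  p := Spec.map (CommRingCat.ofHom MvPolynomial.C) ≫ hV.fromSpec
  open_j := inferInstance
  closed_i := isClosedImmersion_specMap φ hφ.1
  flat_p := by
    have : Flat (Spec.map (CommRingCat.ofHom (MvPolynomial.C : Γ(Y, V) →+*
      MvPolynomial (Fin n) Γ(Y, V)))) := Flat.SpecMap_iff.2 (flat_C n)
    infer_instance
  fp_p := by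
    have : LocallyOfFinitePresentation (Spec.map (CommRingCat.ofHom (MvPolynomial.C :
      Γ(Y, V) →+* MvPolynomial (Fin n) Γ(Y, V)))) :=
        (LocallyOfFinitePresentation.SpecMap_iff _).2 (finitePresentation_C n)
    infer_instance
  w := by
    have e : Spec.map (CommRingCat.ofHom φ) ≫ Spec.map (CommRingCat.ofHom MvPolynomial.C) =
        Spec.map (f.appLE V U h) := by
      rw [← Spec.map_comp]
      congr 1
      ext r
      exact congr($(hφ.2) r)
    rw [reassoc_of% e]
    exact IsAffineOpen.SpecMap_appLE_fromSpec f hV hU h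

lemma specDatum_test_iff {U : X.Opens} {V : Y.Opens} (hU : IsAffineOpen U)
    (hV : IsAffineOpen V) (h : U ≤ f ⁻¹ᵁ V) {n : ℕ} (φ : MvPolynomial (Fin n) Γ(Y, V) →+* Γ(X, U))
    (hφ : DerSch.IsChart f U V h φ) :
    (specDatum f hU hV h φ hφ).test (-1) (DCoh.toD X (DerSch.unitCx X)) ↔
      φ.FinitePresentation := by
  have e := unitTestIso (specDatum f hU hV h φ hφ)
  exact ⟨fun H => (pc_pushSpec_negOne_iff (CommRingCat.ofHom φ) hφ.1).1 (pc_of_iso e H),
    fun H => pc_of_iso e.symm ((pc_pushSpec_negOne_iff (CommRingCat.ofHom φ) hφ.1).2 H)⟩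

lemma finitePresentation_chart_iff {U : X.Opens} {V : Y.Opens} (h : U ≤ f ⁻¹ᵁ V) {n : ℕ}
    (φ : MvPolynomial (Fin n) Γ(Y, V) →+* Γ(X, U)) (hφ : DerSch.IsChart f U V h φ) :
    φ.FinitePresentation ↔ (f.appLE V U h).hom.FinitePresentation := by
  rw [← hφ.2]
  constructor
  · intro h1
    exact h1.comp (finitePresentation_C n)
  · intro h1
    exact RingHom.FinitePresentation.of_comp_finiteType _ h1
      (RingHom.FiniteType.of_finitePresentation (finitePresentation_C n))

/-- A morphism locally of finite type is `(-1)`-pseudo-coherent iff it is locally of finite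
presentation. -/
theorem isNPseudoCoherent_negOne_iff [LocallyOfFiniteType f] :
    DerSch.IsNPseudoCoherent f (-1) ↔ LocallyOfFinitePresentation f := by
  constructor
  · intro H
    rw [HasRingHomProperty.iff_appLE (P := @LocallyOfFinitePresentation)]
    intro V U h
    obtain ⟨n, φ, hφ⟩ := exists_chart f U.2 V.2 h
    rw [← finitePresentation_chart_iff f h φ hφ, ← specDatum_test_iff f U.2 V.2 h φ hφ]
    exact test_of_isPseudoCoherentRel H _
  · intro H
    refine isPseudoCoherentRel_of_data fun x => ?_
    obtain ⟨V, hV, hxV, -⟩ := exists_isAffineOpen_mem_and_subset (x := f x) (U := ⊤) trivial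
    obtain ⟨U, hU, hxU, hUV⟩ := exists_isAffineOpen_mem_and_subset (x := x) (U := f ⁻¹ᵁ V) hxV
    obtain ⟨n, φ, hφ⟩ := exists_chart f hU hV hUV
    obtain ⟨z, hz⟩ : x ∈ Set.range hU.fromSpec := by rw [hU.range_fromSpec]; exact hxU
    refine ⟨specDatum f hU hV hUV φ hφ, z, hz, ?_⟩
    rw [specDatum_test_iff, finitePresentation_chart_iff f hUV φ hφ]
    exact LocallyOfFinitePresentation.finitePresentation_appLE (f := f) hV hU hUV

end Scheme

end K240.NegOne
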