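import Groth.Agent.PerfC.ClosedImmPc
import Groth.Agent.Dual.H354.FlatClosed
import Groth.Agent.Dcoh.PushRestrict

/-!
# Pseudo-coherence of direct images along closed immersions: change of the ambient scheme

`T i m K` says that `i_* K` is `m`-pseudo-coherent, for a closed immersion `i : W ⟶ P`.  Over an affine
base `S` the property does not depend on the closed immersion of the affine scheme `W` into an affine
scheme `P` flat and of finite presentation over `S` (`T_iff`).
-/

set_option autoImplicit false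
universe u
open CategoryTheory CategoryTheory.Limits AlgebraicGeometry
open Groth.Agent.PerfA Groth.Agent.PerfA.Restrict Groth.Agent.PerfC.PcLocal
open Groth.Agent.PerfC.ClosedImmPc Groth.Agent.PerfC.ClosedPush Groth.Agent.PerfC.PcPush
attribute [local instance] HasDerivedCategory.standard

namespace K240.PushTest

variable {W W₀ P P₀ Q : Scheme.{u}}

/-- `i_* K` is `m`-pseudo-coherent. -/
def T (i : W ⟶ P) [IsClosedImmersion i] (m : ℤ) (K : DCoh.D W) : Prop :=
  DCoh.IsPseudoCoherentD m ((pushD i).obj K)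

/-- Direct image in two steps. -/
noncomputable def pushDComp (i : W ⟶ P) [IsClosedImmersion i] (s : P ⟶ Q) [IsClosedImmersion s] :
    pushD i ⋙ pushD s ≅ pushD (i ≫ s) :=
  ExactD.mapDComp (Scheme.Modules.pushforwardComp i s)

/-- Direct images along equal closed immersions. -/
noncomputable def pushDCongr {i i' : W ⟶ P} [IsClosedImmersion i] [IsClosedImmersion i']
    (h : i = i') : pushD i ≅ pushD i' :=
  ExactD.mapDIso (Scheme.Modules.pushforwardCongr h)

/-- Restriction to an open subscheme commutes with direct image. -/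
noncomputable def pushDRestrictIso {i : W ⟶ P} [IsClosedImmersion i] {c : W₀ ⟶ P₀}
    [IsClosedImmersion c] {l : W₀ ⟶ W} {k : P₀ ⟶ P} [IsOpenImmersion l] [IsOpenImmersion k]
    (h : IsPullback l c i k) : pushD i ⋙ restrictD k ≅ restrictD l ⋙ pushD c :=
  ExactD.mapDComp (Iso.refl _) ≪≫
    (ExactD.mapDComp (Groth.Agent.Dcoh.PushRestrict.pushRestrictIsoOfIsPullback i c l k h).symm).symm

lemma T_congr {i i' : W ⟶ P} [IsClosedImmersion i] [IsClosedImmersion i'] (h : i = i') (m : ℤ)
    (K : DCoh.D W) : T i m K ↔ T i' m K :=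
  ⟨pc_of_iso ((pushDCongr h).app K), pc_of_iso ((pushDCongr h).symm.app K)⟩

lemma T_iso {i : W ⟶ P} [IsClosedImmersion i] {m : ℤ} {K L : DCoh.D W} (e : K ≅ L)
    (h : T i m K) : T i m L :=
  pc_of_iso ((pushD i).mapIso e) h

lemma T_mono {i : W ⟶ P} [IsClosedImmersion i] {m n : ℤ} (hmn : m ≤ n) {K : DCoh.D W}
    (h : T i m K) : T i n K :=
  pc_mono hmn h

/-- Enlarging the ambient scheme by a closed immersion with pseudo-coherent structure sheaf. -/
lemma T_comp_iff_of_PO (i : W ⟶ P) [IsClosedImmersion i] (s : P ⟶ Q) [IsClosedImmersion s]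
    (hs : PO s) (m : ℤ) (K : DCoh.D W) : T i m K ↔ T (i ≫ s) m K :=
  (iff_pushD s hs ((pushD i).obj K) m).trans
    ⟨pc_of_iso ((pushDComp i s).app K), pc_of_iso ((pushDComp i s).symm.app K)⟩

/-- Enlarging the ambient scheme, inside flat locally finitely presented schemes. -/
lemma T_comp_iff (i : W ⟶ P) [IsClosedImmersion i] (s : P ⟶ Q) [IsClosedImmersion s]
    {S : Scheme.{u}} (q : Q ⟶ S) [Flat q] [LocallyOfFinitePresentation q] [Flat (s ≫ q)]
    [LocallyOfFinitePresentation (s ≫ q)] (m : ℤ) (K : DCoh.D W) : T i m K ↔ T (i ≫ s) m K :=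
  T_comp_iff_of_PO i s (Groth.Agent.Dual.H354.FlatClosed.pc_push_closed s q) m K

/-- Restriction to an open of the ambient scheme. -/
lemma T_restrict {i : W ⟶ P} [IsClosedImmersion i] {c : W₀ ⟶ P₀}
    [IsClosedImmersion c] {l : W₀ ⟶ W} {k : P₀ ⟶ P} [IsOpenImmersion l] [IsOpenImmersion k]
    (h : IsPullback l c i k) {m : ℤ} {K : DCoh.D W} (hK : T i m K) :
    T c m ((restrictD l).obj K) :=
  pc_of_iso ((pushDRestrictIso h).app K) (pc_restrict k hK)

/-- The test is local on the ambient scheme. -/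
lemma T_of_cover {i : W ⟶ P} [IsClosedImmersion i] {m : ℤ} {K : DCoh.D W}
    (h : ∀ w : W, ∃ (W₀ P₀ : Scheme.{u}) (c : W₀ ⟶ P₀) (_ : IsClosedImmersion c) (l : W₀ ⟶ W)
      (k : P₀ ⟶ P) (_ : IsOpenImmersion l) (_ : IsOpenImmersion k) (_ : IsPullback l c i k)
      (w₀ : W₀), l w₀ = w ∧ T c m ((restrictD l).obj K)) : T i m K := by
  refine pc_of_cover _ fun x => ?_
  by_cases hx : x ∈ Set.range i
  · obtain ⟨w, rfl⟩ := hx
    obtain ⟨W₀, P₀, c, _, l, k, _, _, sq, w₀, rfl, hT⟩ := h w
    refine ⟨P₀, k, inferInstance, c w₀, ?_, pc_of_iso ((pushDRestrictIso sq).symm.app K) hT⟩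
    rw [← Scheme.Hom.comp_apply, ← sq.w, Scheme.Hom.comp_apply]
  · let V : P.Opens := ⟨(Set.range i)ᶜ, i.isClosedEmbedding.isClosed_range.isOpen_compl⟩
    refine ⟨V, V.ι, inferInstance, ⟨x, hx⟩, rfl, pc_of_isZero ?_ m⟩
    have h0 : IsEmpty (i ⁻¹ᵁ V : W.Opens).toScheme := ⟨fun z => z.2 ⟨z.1, rfl⟩⟩
    exact ((pushD (i ∣_ V)).map_isZero (isZero_of_isEmpty h0 _)).of_iso
      ((pushDRestrict i V).app K)

end K240.PushTest
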