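import Groth.Agent.KSix.K240.RelData
import Groth.Prelude.Def_DerSch2

/-!
# Relative pseudo-coherence: charts and data

The chart form `DerSch.IsPseudoCoherentRel f m K` of relative pseudo-coherence is equivalent to: `f` is
locally of finite type and near every point of `X` some (equivalently: every) datum passes the test.
-/

set_option autoImplicit false
universe u
open CategoryTheory CategoryTheory.Limits AlgebraicGeometry
open Groth.Agent.PerfA Groth.Agent.PerfA.Restrict Groth.Agent.PerfC.PcLocal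
open Groth.Agent.PerfC.ClosedImmPc K240.PushTest K240.ChartChange K240.RelData
attribute [local instance] HasDerivedCategory.standard

namespace K240.RelChart

variable {X Y : Scheme.{u}} (f : X ⟶ Y)

lemma isClosedImmersion_chartImm {U : X.Opens} (hU : IsAffineOpen U) {R : Type u} [CommRing R]
    {n : ℕ} (φ : MvPolynomial (Fin n) R →+* Γ(X, U)) (hφ : Function.Surjective φ) :
    IsClosedImmersion (DerSch.chartImm U φ) := by
  have : IsAffine U.toScheme := hU
  have h1 : IsClosedImmersion (Spec.map (CommRingCat.ofHom φ)) := isClosedImmersion_specMap φ hφ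
  have h2 : IsIso U.toSpecΓ := by
    rw [← hU.isoSpec_hom]; infer_instance
  unfold DerSch.chartImm
  infer_instance

/-- The datum attached to a chart. -/
noncomputable def chartDatum {U : X.Opens} {V : Y.Opens} (hU : IsAffineOpen U)
    (hV : IsAffineOpen V) (h : U ≤ f ⁻¹ᵁ V) {n : ℕ} (φ : MvPolynomial (Fin n) Γ(Y, V) →+* Γ(X, U))
    (hφ : DerSch.IsChart f U V h φ) : Datum f where
  W := U
  P := Spec (CommRingCat.of (MvPolynomial (Fin n) Γ(Y, V)))
  j := U.ι
  i := DerSch.chartImm U φ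
  p := Spec.map (CommRingCat.ofHom MvPolynomial.C) ≫ hV.fromSpec
  open_j := inferInstance
  closed_i := isClosedImmersion_chartImm hU φ hφ.1
  flat_p := by
    have : Flat (Spec.map (CommRingCat.ofHom (MvPolynomial.C : Γ(Y, V) →+*
      MvPolynomial (Fin n) Γ(Y, V)))) := Flat.SpecMap_iff.2 (flat_C n)
    infer_instance
  fp_p := by
    have : LocallyOfFinitePresentation (Spec.map (CommRingCat.ofHom (MvPolynomial.C :
      Γ(Y, V) →+* MvPolynomial (Fin n) Γ(Y, V)))) :=
        (LocallyOfFinitePresentation.SpecMap_iff _).2 (finitePresentation_C n)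
    infer_instance
  w := by
    have e : Spec.map (CommRingCat.ofHom φ) ≫ Spec.map (CommRingCat.ofHom MvPolynomial.C) =
        Spec.map (f.appLE V U h) := by
      rw [← Spec.map_comp]
      congr 1
      ext r
      exact congr($(hφ.2) r)
    unfold DerSch.chartImm
    rw [Category.assoc]
    erw [reassoc_of% e]
    rw [IsAffineOpen.SpecMap_appLE_fromSpec f hV hU h, ← Category.assoc,
      IsAffineOpen.toSpecΓ_fromSpec]

lemma chartPC_iff {U : X.Opens} {V : Y.Opens} (hU : IsAffineOpen U)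
    (hV : IsAffineOpen V) (h : U ≤ f ⁻¹ᵁ V) {n : ℕ} (φ : MvPolynomial (Fin n) Γ(Y, V) →+* Γ(X, U))
    (hφ : DerSch.IsChart f U V h φ) (m : ℤ) (K : DCoh.D X) :
    DerSch.ChartPC m K U V φ ↔ (chartDatum f hU hV h φ hφ).test m K := by
  have hc := isClosedImmersion_chartImm hU φ hφ.1
  have key (G : CochainComplex X.Modules ℤ) :
      (pushD (DerSch.chartImm U φ)).obj ((restrictD U.ι).obj (DCoh.toD X G)) ≅
        DCoh.toD _ ((DerSch.pushCx (DerSch.chartImm U φ)).obj ((DCoh.restrictCx U).obj G)) :=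
    (pushD (DerSch.chartImm U φ)).mapIso (restrictDQ U.ι G) ≪≫
      (Scheme.Modules.pushforward (DerSch.chartImm U φ)).mapDerivedCategoryFactors.app _
  constructor
  · intro H
    obtain ⟨G, ⟨e⟩⟩ := exists_rep X K
    exact pc_of_iso ((key G).symm ≪≫
      (pushD (DerSch.chartImm U φ)).mapIso ((restrictD U.ι).mapIso e)) (H G ⟨e⟩)
  · rintro H G ⟨e⟩
    exact pc_of_iso ((pushD (DerSch.chartImm U φ)).mapIso ((restrictD U.ι).mapIso e.symm) ≪≫ key G)
      H

lemma exists_chart [LocallyOfFiniteType f] {U : X.Opens} {V : Y.Opens} (hU : IsAffineOpen U)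
    (hV : IsAffineOpen V) (h : U ≤ f ⁻¹ᵁ V) :
    ∃ (n : ℕ) (φ : MvPolynomial (Fin n) Γ(Y, V) →+* Γ(X, U)), DerSch.IsChart f U V h φ := by
  have h1 : (f.appLE V U h).hom.FiniteType :=
    HasRingHomProperty.appLE @LocallyOfFiniteType f inferInstance ⟨V, hV⟩ ⟨U, hU⟩ h
  let _ := (f.appLE V U h).hom.toAlgebra
  have h2 : Algebra.FiniteType Γ(Y, V) Γ(X, U) := h1
  obtain ⟨n, φ, hφ⟩ := Algebra.FiniteType.iff_quotient_mvPolynomial''.1 h2
  refine ⟨n, φ, hφ, ?_⟩
  ext r
  exact φ.commutes r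

/-- Every point lies in the open piece of a datum. -/
lemma exists_datum [LocallyOfFiniteType f] (x : X) (U₀ : X.Opens) (hx : x ∈ U₀) :
    ∃ (D : Datum f) (w : D.W), D.j w = x ∧ IsAffine D.P ∧ D.j.opensRange ≤ U₀ := by
  obtain ⟨V, hV, hxV, -⟩ := exists_isAffineOpen_mem_and_subset (x := f x) (U := ⊤) trivial
  obtain ⟨U, hU, hxU, hUV⟩ := exists_isAffineOpen_mem_and_subset (x := x) (U := f ⁻¹ᵁ V ⊓ U₀)
    ⟨hxV, hx⟩
  obtain ⟨n, φ, hφ⟩ := exists_chart f hU hV (fun y hy => (hUV hy).1)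
  refine ⟨chartDatum f hU hV _ φ hφ, ⟨x, hxU⟩, rfl, inferInstanceAs (IsAffine (Spec _)), ?_⟩
  rintro _ ⟨y, rfl⟩
  exact (hUV y.2).2

/-- Chart-free form of relative pseudo-coherence. -/
theorem isPseudoCoherentRel_iff (m : ℤ) (K : DCoh.D X) :
    DerSch.IsPseudoCoherentRel f m K ↔ LocallyOfFiniteType f ∧ ∀ x : X, At f m K x := by
  constructor
  · rintro ⟨h1, 𝒱, h𝒱, H⟩
    refine ⟨h1, fun x => ?_⟩
    have hx : f x ∈ (⨆ V ∈ 𝒱, (V : Y.Opens)) := by rw [h𝒱]; trivial
    simp only [TopologicalSpace.Opens.mem_iSup] at hx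
    obtain ⟨V, hV, hxV⟩ := hx
    obtain ⟨𝒰, h𝒰, H'⟩ := H V hV
    have hx : x ∈ (⨆ U ∈ 𝒰, (U : X.Opens)) := by rw [h𝒰]; exact hxV
    simp only [TopologicalSpace.Opens.mem_iSup] at hx
    obtain ⟨U, hU, hxU⟩ := hx
    have hUV : (U : X.Opens) ≤ f ⁻¹ᵁ (V : Y.Opens) := by
      rw [← h𝒰]
      exact le_iSup₂_of_le U hU le_rfl
    obtain ⟨n, φ, hφ, hK⟩ := H' U hU hUV
    exact ⟨chartDatum f U.2 V.2 hUV φ hφ, ⟨x, hxU⟩, rfl,
      (chartPC_iff f U.2 V.2 hUV φ hφ m K).1 hK⟩
  · rintro ⟨h1, H⟩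
    refine ⟨h1, Set.univ, ?_, fun V _ => ⟨{U | (U : X.Opens) ≤ f ⁻¹ᵁ (V : Y.Opens)}, ?_, ?_⟩⟩
    · rw [eq_top_iff]
      intro y _
      obtain ⟨V, hV, hyV, -⟩ := exists_isAffineOpen_mem_and_subset (x := y) (U := ⊤) trivial
      simp only [TopologicalSpace.Opens.mem_iSup]
      exact ⟨⟨V, hV⟩, trivial, hyV⟩
    · refine le_antisymm (iSup₂_le fun U hU => hU) fun x hx => ?_
      obtain ⟨U, hU, hxU, hUV⟩ := exists_isAffineOpen_mem_and_subset hx
      simp only [TopologicalSpace.Opens.mem_iSup]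
      exact ⟨⟨U, hU⟩, hUV, hxU⟩
    · intro U hU h
      obtain ⟨n, φ, hφ⟩ := exists_chart f U.2 V.2 h
      exact ⟨n, φ, hφ, (chartPC_iff f U.2 V.2 h φ hφ m K).2 (Datum.test_of_at _ fun w => H _)⟩

variable {f}

/-- Relatively pseudo-coherent objects pass the test for every datum. -/
theorem test_of_isPseudoCoherentRel {m : ℤ} {K : DCoh.D X} (h : DerSch.IsPseudoCoherentRel f m K)
    (D : Datum f) : D.test m K :=
  D.test_of_at fun _ => ((isPseudoCoherentRel_iff f m K).1 h).2 _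

/-- Data covering `X` detect relative pseudo-coherence. -/
theorem isPseudoCoherentRel_of_data [LocallyOfFiniteType f] {m : ℤ} {K : DCoh.D X}
    (h : ∀ x : X, ∃ (D : Datum f) (w : D.W), D.j w = x ∧ D.test m K) :
    DerSch.IsPseudoCoherentRel f m K :=
  (isPseudoCoherentRel_iff f m K).2 ⟨inferInstance, h⟩

/-- Relative pseudo-coherence, tested on all data. -/
theorem isPseudoCoherentRel_iff_forall [LocallyOfFiniteType f] (m : ℤ) (K : DCoh.D X) :
    DerSch.IsPseudoCoherentRel f m K ↔ ∀ D : Datum f, D.test m K := by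
  refine ⟨test_of_isPseudoCoherentRel, fun h => isPseudoCoherentRel_of_data fun x => ?_⟩
  obtain ⟨D, w, hw, -, -⟩ := exists_datum f x ⊤ trivial
  exact ⟨D, w, hw, h D⟩

theorem isPseudoCoherentRel_of_iso {m : ℤ} {K L : DCoh.D X} (e : K ≅ L)
    (h : DerSch.IsPseudoCoherentRel f m K) : DerSch.IsPseudoCoherentRel f m L := by
  have := h.1
  rw [isPseudoCoherentRel_iff_forall] at h ⊢
  exact fun D => D.test_of_iso e (h D)

theorem isPseudoCoherentRel_mono {m n : ℤ} (hmn : m ≤ n) {K : DCoh.D X}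
    (h : DerSch.IsPseudoCoherentRel f m K) : DerSch.IsPseudoCoherentRel f n K := by
  have := h.1
  rw [isPseudoCoherentRel_iff_forall] at h ⊢
  exact fun D => T_mono hmn (h D)

end K240.RelChart
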