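import Groth.Agent.KSix.K240.ChartChange

/-!
# Relative pseudo-coherence through data

A datum for `f : X ⟶ Y` is an open piece `j : W ⟶ X` of `X` together with a closed immersion
`i : W ⟶ P` into a scheme `p : P ⟶ Y` flat and locally of finite presentation over `Y`.  The test
`D.test m K` asks that `i_* (K|_W)` be `m`-pseudo-coherent on `P`.  The main result is that a datum
passes the test if every point of its open piece lies in a datum which passes it.
-/

set_option autoImplicit false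
universe u
open CategoryTheory CategoryTheory.Limits AlgebraicGeometry
open Groth.Agent.PerfA Groth.Agent.PerfA.Restrict Groth.Agent.PerfC.PcLocal
open Groth.Agent.PerfC.ClosedImmPc K240.PushTest K240.ChartChange
attribute [local instance] HasDerivedCategory.standard

namespace K240.RelData

variable {X Y : Scheme.{u}}

/-- An open piece of `X` closed in a scheme flat and locally of finite presentation over `Y`. -/
structure Datum (f : X ⟶ Y) where
  /-- the open piece -/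
  W : Scheme.{u}
  /-- the ambient scheme -/
  P : Scheme.{u}
  /-- the open immersion -/
  j : W ⟶ X
  /-- the closed immersion -/
  i : W ⟶ P
  /-- the structure morphism of the ambient scheme -/
  p : P ⟶ Y
  open_j : IsOpenImmersion j
  closed_i : IsClosedImmersion i
  flat_p : Flat p
  fp_p : LocallyOfFinitePresentation p
  w : i ≫ p = j ≫ f

attribute [instance] Datum.open_j Datum.closed_i Datum.flat_p Datum.fp_p

variable {f : X ⟶ Y}

/-- The pseudo-coherence test on a datum. -/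
def Datum.test (D : Datum f) (m : ℤ) (K : DCoh.D X) : Prop := T D.i m ((restrictD D.j).obj K)

lemma Datum.test_of_iso (D : Datum f) {m : ℤ} {K L : DCoh.D X} (e : K ≅ L) (h : D.test m K) :
    D.test m L :=
  T_iso ((restrictD D.j).mapIso e) h

lemma closed_of_isPullback {W W₀ P N : Scheme.{u}} {l : W₀ ⟶ W} {c : W₀ ⟶ N} {i : W ⟶ P}
    {k : N ⟶ P} (sq : IsPullback l c i k) [IsClosedImmersion i] : IsClosedImmersion c :=
  MorphismProperty.of_isPullback sq inferInstance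

/-- The restriction of a datum to an open piece of the ambient scheme. -/
def Datum.restr (D : Datum f) {W₀ N : Scheme.{u}} (l : W₀ ⟶ D.W) (c : W₀ ⟶ N) (k : N ⟶ D.P)
    [IsOpenImmersion l] [IsOpenImmersion k] (sq : IsPullback l c D.i k) : Datum f where
  W := W₀
  P := N
  j := l ≫ D.j
  i := c
  p := k ≫ D.p
  open_j := inferInstance
  closed_i := closed_of_isPullback sq
  flat_p := inferInstance
  fp_p := inferInstance
  w := by rw [← Category.assoc, ← sq.w, Category.assoc, D.w, Category.assoc]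

lemma Datum.test_restr (D : Datum f) {W₀ N : Scheme.{u}} (l : W₀ ⟶ D.W) (c : W₀ ⟶ N) (k : N ⟶ D.P)
    [IsOpenImmersion l] [IsOpenImmersion k] (sq : IsPullback l c D.i k) {m : ℤ} {K : DCoh.D X}
    (h : D.test m K) : (D.restr l c k sq).test m K := by
  have := closed_of_isPullback sq
  exact T_iso ((restrictDComp l D.j).app K) (T_restrict sq h)

/-- Cutting out an open piece of a datum. -/
lemma Datum.exists_piece (D : Datum f) (G : X.Opens) (hG : G ≤ D.j.opensRange) (N : D.P.Opens)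
    (h : D.i ⁻¹ᵁ N = D.j ⁻¹ᵁ G) : ∃ (l : G.toScheme ⟶ D.W) (_ : IsOpenImmersion l)
      (c : G.toScheme ⟶ N.toScheme), l ≫ D.j = G.ι ∧ IsPullback l c D.i N.ι := by
  have hG' : Set.range G.ι ⊆ Set.range D.j := by
    rw [Scheme.Opens.range_ι]; exact hG
  let l := IsOpenImmersion.lift D.j G.ι hG'
  have hl : l ≫ D.j = G.ι := IsOpenImmersion.lift_fac _ _ _
  have hol : IsOpenImmersion l := by
    have : IsOpenImmersion (l ≫ D.j) := by rw [hl]; infer_instance
    exact IsOpenImmersion.of_comp l D.j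
  have hr : l.opensRange = D.j ⁻¹ᵁ G := by
    ext w
    constructor
    · rintro ⟨g, rfl⟩
      change D.j (l g) ∈ G
      rw [← Scheme.Hom.comp_apply, hl]
      exact g.2
    · intro hw
      refine ⟨⟨D.j w, hw⟩, D.j.injective ?_⟩
      rw [← Scheme.Hom.comp_apply, hl]
      rfl
  have hN : Set.range (l ≫ D.i) ⊆ Set.range N.ι := by
    rw [Scheme.Opens.range_ι]
    rintro _ ⟨g, rfl⟩
    have : l g ∈ D.i ⁻¹ᵁ N := by rw [h, ← hr]; exact ⟨g, rfl⟩
    rw [Scheme.Hom.comp_apply]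
    exact this
  let c := IsOpenImmersion.lift N.ι (l ≫ D.i) hN
  have hc : c ≫ N.ι = l ≫ D.i := IsOpenImmersion.lift_fac _ _ _
  refine ⟨l, hol, c, hl, ?_⟩
  refine (IsOpenImmersion.isPullback _ _ _ _ hc.symm ?_).flip
  rw [hr, ← h, Scheme.Opens.opensRange_ι]

/-- Small affine pieces of a datum. -/
lemma Datum.exists_affine (D : Datum f) (w : D.W) (V : Y.Opens) (hV : f (D.j w) ∈ V) :
    ∃ U : X.Opens, IsAffineOpen U ∧ D.j w ∈ U ∧ U ≤ D.j.opensRange ∧ ∀ g : Γ(X, U),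
      ∃ N : D.P.Opens, IsAffineOpen N ∧ N ≤ D.p ⁻¹ᵁ V ∧ D.i ⁻¹ᵁ N = D.j ⁻¹ᵁ X.basicOpen g := by
  have hx : D.i w ∈ D.p ⁻¹ᵁ V := by
    change D.p (D.i w) ∈ V
    rw [← Scheme.Hom.comp_apply, D.w, Scheme.Hom.comp_apply]
    exact hV
  obtain ⟨_, ⟨B, hB, rfl⟩, hwB, hBV⟩ := D.P.isBasis_affineOpens.exists_subset_of_mem_open hx
    (D.p ⁻¹ᵁ V).2
  have hB' : IsAffineOpen (D.i ⁻¹ᵁ B) := hB.preimage D.i
  refine ⟨D.j ''ᵁ (D.i ⁻¹ᵁ B), hB'.image_of_isOpenImmersion D.j, ⟨w, hwB, rfl⟩,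
    fun x hx => by obtain ⟨y, -, rfl⟩ := hx; exact ⟨y, rfl⟩, fun g => ?_⟩
  obtain ⟨F, hF⟩ := D.i.app_surjective B hB ((D.j.appIso (D.i ⁻¹ᵁ B)).hom g)
  refine ⟨D.P.basicOpen F, hB.basicOpen F, (D.P.basicOpen_le F).trans hBV, ?_⟩
  rw [Scheme.preimage_basicOpen, hF, Scheme.Hom.appIso_hom]
  erw [Scheme.basicOpen_res]
  rw [Scheme.preimage_basicOpen]
  refine inf_eq_right.2 ?_
  refine (Scheme.basicOpen_le _ _).trans ?_
  rw [D.j.preimage_image_eq]

lemma flat_lift {N S : Scheme.{u}} (p : N ⟶ Y) [Flat p] (s : S ⟶ Y) [IsOpenImmersion s]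
    (h : Set.range p ⊆ Set.range s) : Flat (IsOpenImmersion.lift s p h) :=
  MorphismProperty.of_isPullback (IsOpenImmersion.isPullback_lift_id p s h).flip ‹Flat p›

lemma fp_lift {N S : Scheme.{u}} (p : N ⟶ Y) [LocallyOfFinitePresentation p] (s : S ⟶ Y)
    [IsOpenImmersion s] (h : Set.range p ⊆ Set.range s) :
    LocallyOfFinitePresentation (IsOpenImmersion.lift s p h) :=
  MorphismProperty.of_isPullback (IsOpenImmersion.isPullback_lift_id p s h).flip
    ‹LocallyOfFinitePresentation p›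

/-- Near a common point, two data give the same test. -/
lemma exists_transfer (D₁ D₂ : Datum f) (w₁ : D₁.W) (w₂ : D₂.W) (h : D₁.j w₁ = D₂.j w₂) :
    ∃ (W₀ N : Scheme.{u}) (l : W₀ ⟶ D₂.W) (c : W₀ ⟶ N) (k : N ⟶ D₂.P) (_ : IsOpenImmersion l)
      (_ : IsOpenImmersion k) (_ : IsClosedImmersion c) (_ : IsPullback l c D₂.i k) (w₀ : W₀),
      l w₀ = w₂ ∧ ∀ (m : ℤ) (K : DCoh.D X), D₁.test m K →
        T c m ((restrictD l).obj ((restrictD D₂.j).obj K)) := by
  obtain ⟨V, hV, hxV⟩ : ∃ V : Y.Opens, IsAffineOpen V ∧ f (D₁.j w₁) ∈ V := by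
    obtain ⟨_, ⟨V, hV, rfl⟩, hxV, -⟩ := Y.isBasis_affineOpens.exists_subset_of_mem_open
      (Set.mem_univ (f (D₁.j w₁))) isOpen_univ
    exact ⟨V, hV, hxV⟩
  obtain ⟨U₁, hU₁, hx₁, hr₁, H₁⟩ := D₁.exists_affine w₁ V hxV
  obtain ⟨U₂, hU₂, hx₂, hr₂, H₂⟩ := D₂.exists_affine w₂ V (by rw [← h]; exact hxV)
  obtain ⟨g₁, g₂, e, hx⟩ := exists_basicOpen_le_affine_inter hU₁ hU₂ (D₁.j w₁)
    ⟨hx₁, by rw [h]; exact hx₂⟩
  obtain ⟨N₁, hN₁, hNV₁, e₁⟩ := H₁ g₁
  obtain ⟨N₂, hN₂, hNV₂, e₂⟩ := H₂ g₂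
  rw [← e] at e₂
  obtain ⟨l₁, ol₁, c₁, hl₁, sq₁⟩ := D₁.exists_piece (X.basicOpen g₁)
    ((X.basicOpen_le g₁).trans hr₁) N₁ e₁
  obtain ⟨l₂, ol₂, c₂, hl₂, sq₂⟩ := D₂.exists_piece (X.basicOpen g₁)
    (by rw [e]; exact (X.basicOpen_le g₂).trans hr₂) N₂ e₂
  have hc₁ : IsClosedImmersion c₁ := closed_of_isPullback sq₁
  have hc₂ : IsClosedImmersion c₂ := closed_of_isPullback sq₂
  refine ⟨_, _, l₂, c₂, N₂.ι, ol₂, inferInstance, hc₂, sq₂, ⟨D₁.j w₁, hx⟩, D₂.j.injective ?_,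
    fun m K hK => ?_⟩
  · rw [← Scheme.Hom.comp_apply, hl₂, ← h]
    rfl
  · have h1 : T c₁ m ((restrictD (X.basicOpen g₁).ι).obj K) :=
      T_iso ((restrictDComp l₁ D₁.j).app K ≪≫ (restrictDCongr hl₁).app K) (T_restrict sq₁ hK)
    have r₁ : Set.range (N₁.ι ≫ D₁.p) ⊆ Set.range V.ι := by
      rw [Scheme.Opens.range_ι]
      rintro _ ⟨n, rfl⟩
      rw [Scheme.Hom.comp_apply]
      exact hNV₁ n.2
    have r₂ : Set.range (N₂.ι ≫ D₂.p) ⊆ Set.range V.ι := by
      rw [Scheme.Opens.range_ι]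
      rintro _ ⟨n, rfl⟩
      rw [Scheme.Hom.comp_apply]
      exact hNV₂ n.2
    have a1 : IsAffine N₁.toScheme := hN₁
    have a2 : IsAffine N₂.toScheme := hN₂
    have a3 : IsAffine V.toScheme := hV
    have b1 := flat_lift (N₁.ι ≫ D₁.p) V.ι r₁
    have b2 := fp_lift (N₁.ι ≫ D₁.p) V.ι r₁
    have b3 := flat_lift (N₂.ι ≫ D₂.p) V.ι r₂
    have b4 := fp_lift (N₂.ι ≫ D₂.p) V.ι r₂
    have key : c₁ ≫ IsOpenImmersion.lift V.ι (N₁.ι ≫ D₁.p) r₁ =
        c₂ ≫ IsOpenImmersion.lift V.ι (N₂.ι ≫ D₂.p) r₂ := by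
      rw [← cancel_mono V.ι, Category.assoc, Category.assoc, IsOpenImmersion.lift_fac,
        IsOpenImmersion.lift_fac, ← Category.assoc, ← Category.assoc, ← sq₁.w, ← sq₂.w,
        Category.assoc, Category.assoc, D₁.w, D₂.w, ← Category.assoc, ← Category.assoc, hl₁, hl₂]
    have h2 := (T_iff_affine c₁ _ c₂ _ key m ((restrictD (X.basicOpen g₁).ι).obj K)).1 h1
    exact T_iso ((restrictDCongr hl₂).symm.app K ≪≫ (restrictDComp l₂ D₂.j).symm.app K) h2

variable (f) in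
/-- Near `x`, some datum passes the test. -/
def At (m : ℤ) (K : DCoh.D X) (x : X) : Prop :=
  ∃ (D : Datum f) (w : D.W), D.j w = x ∧ D.test m K

/-- A datum passes the test if every point of its open piece lies in a datum which does. -/
theorem Datum.test_of_at (D : Datum f) {m : ℤ} {K : DCoh.D X}
    (h : ∀ w : D.W, At f m K (D.j w)) : D.test m K := by
  refine T_of_cover fun w => ?_
  obtain ⟨D₁, w₁, h₁, hT⟩ := h w
  obtain ⟨W₀, N, l, c, k, h1, h2, h3, sq, w₀, e, H⟩ := exists_transfer D₁ D w₁ w h₁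
  exact ⟨W₀, N, c, h3, l, k, h1, h2, sq, w₀, e, H m K hT⟩

theorem Datum.test_iff (D : Datum f) (m : ℤ) (K : DCoh.D X) :
    D.test m K ↔ ∀ w : D.W, At f m K (D.j w) :=
  ⟨fun h w => ⟨D, w, rfl, h⟩, D.test_of_at⟩

end K240.RelData
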