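import Groth.Agent.KSix.K240.RelComp
import Groth.Agent.PerfC.PcTest
import Groth.Agent.Dual.H314.ThickUniv
import Groth.Agent.PerfC.LTBound
import Groth.Agent.PerfC.DTens
import Groth.Agent.PerfB.PcDev
import Groth.Agent.Dual.H369.TensClosed
import Groth.Agent.Dcoh.MonSymm293
import Groth.Agent.Models2.PerfRetract
import Groth.Agent.S0888
import Groth.Agent.PerfB.LpullKit
import Groth.Agent.Dcoh.DualX

/-!
# Derived pullback of relatively pseudo-coherent objects along a pseudo-coherent morphism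

* `pc_push_tensor`: `c_* (A ⊗^L M)` is pseudo-coherent if `c_* M` and `A` are (`c` a closed immersion of
  affine schemes);
* `isPseudoCoherentRel_Lpull`: for `f : X ⟶ Y` pseudo-coherent and `G` pseudo-coherent relative to
  `g : Y ⟶ Z`, the object `Lf^* G` is pseudo-coherent relative to `f ≫ g`.
-/

set_option autoImplicit false
universe u
open CategoryTheory CategoryTheory.Limits AlgebraicGeometry CategoryTheory.Pretriangulated
open Groth.Agent Groth.Agent.PerfA Groth.Agent.PerfA.Restrict Groth.Agent.PerfC.PcLocal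
open Groth.Agent.PerfC.ClosedImmPc K240.PushTest K240.ChartChange K240.RelData K240.RelChart
open Groth.Agent.PerfB.FlatPull K240.RelBasic K240.RelFlat K240.RelComp Groth.Agent.PerfC.IsoLocus
open Groth.Agent.PerfB.PcDev
open MonoidalCategory
attribute [local instance] HasDerivedCategory.standard

open scoped Groth.Agent.Dcoh.MonCat Groth.Agent.Dcoh.ModD

namespace K240.RelLpull

variable {X Y Z : Scheme.{u}}

/-- Retracts of pseudo-coherent objects are pseudo-coherent. -/
instance pcP_isStableUnderRetracts : (pcP X).IsStableUnderRetracts :=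
  ⟨fun {K _} r hL m => by
    obtain ⟨M, ⟨e⟩⟩ := Groth.Agent.Models2.PerfRetract.exists_biprod_iso r
    exact (Groth.Agent.S0888.result m K M (Groth.Agent.PerfC.PcLocal.pc_of_iso e (hL m))).1⟩

section Abstract

variable {D : Type*} [Category* D] {D' : Type*} [Category* D']

lemma isStableUnderRetracts_inverseImage (G : D ⥤ D') (Q : ObjectProperty D')
    [Q.IsStableUnderRetracts] : (Q.inverseImage G).IsStableUnderRetracts :=
  ⟨fun r h => Q.prop_of_retract (r.map G) h⟩

end Abstract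

/-- A triangulated functor on `D(O_X)`, `X` affine, which sends `O_X` to a pseudo-coherent object and
is bounded on the right preserves pseudo-coherence. -/
theorem pc_of_unit [IsAffine X] (G : DCoh.D X ⥤ DCoh.D Y) (hG : IsTriang G) (N : ℤ)
    (hN : ∀ (C : DCoh.D X) (a : ℤ), DCoh.IsQCohD C → C.IsLE a → (G.obj C).IsLE (a + N))
    (hO : PC (G.obj (DCoh.inD X (Coh.structureModule X))))
    (E : DCoh.D X) (hE : PC E) : PC (G.obj E) := by
  obtain ⟨_, _⟩ := id hG
  have h1 := Dual.H314.ThickUniv.isTriangulated_inverseImage G (pcP Y)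
  have h2 := isStableUnderRetracts_inverseImage G (pcP Y)
  exact fun m => PerfC.PcTest.pc_of_perfect_test G hG N hN
    (fun E hE => Dual.H314.ThickUniv.prop_of_isPerfect_affine ((pcP Y).inverseImage G) hO E hE) E
      hE m

/-- `O ⊗ M ≅ M`. -/
noncomputable def unitTensor (M : DCoh.D X) :
    DCoh.inD X (Coh.structureModule X) ⊗ M ≅ M :=
  whiskerRightIso (Dcoh.DualX.unitIso (X := X)) M ≪≫ λ_ M

lemma isTriang_tensorRight (M : DCoh.D X) : IsTriang (tensorRight M) := by
  have h := Dcoh.ModTens.hasLTensorCx (DerivedCategory.Q.objPreimage M)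
  exact (PerfC.DTens.isTriang_LTensorCx (DerivedCategory.Q.objPreimage M)).of_iso
    (Dcoh.ModTens.LTensorCxIso _ ≪≫ Dcoh.MonAdj.tensorRightIso (DerivedCategory.Q.objObjPreimageIso M))

lemma isTriang_pushD (c : X ⟶ Y) [IsClosedImmersion c] : IsTriang (pushD c) :=
  IsTriang.mk' _

/-- The tensor product is right t-exact. -/
theorem isLE_tensor (K L : DCoh.D X) (a b : ℤ) [K.IsLE a] [L.IsLE b] : (K ⊗ L).IsLE (a + b) := by
  have h := Dcoh.ModTens.hasLTensorCx (DerivedCategory.Q.objPreimage L)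
  have h0 : (DCoh.toD X (DerivedCategory.Q.objPreimage L)).IsLE b :=
    DerivedCategory.TStructure.t.isLE_of_iso (DerivedCategory.Q.objObjPreimageIso L).symm b
  have h1 := PerfC.LTBound.isLE_LTensorCx (PerfC.DTens.bifData X) (DerivedCategory.Q.objPreimage L) b K a
  exact DerivedCategory.TStructure.t.isLE_of_iso ((Dcoh.ModTens.LTensorCxIso _).app K ≪≫
    (Dcoh.MonAdj.tensorRightIso (DerivedCategory.Q.objObjPreimageIso L)).app K) (a + b)

/-- `c_* (A ⊗^L M)` is pseudo-coherent if `A` and `c_* M` are. -/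
theorem pc_push_tensor [IsAffine X] [CompactSpace Y] (c : X ⟶ Y) [IsClosedImmersion c]
    (M : DCoh.D X) (hM : ∀ m : ℤ, T c m M) (A : DCoh.D X) (hA : ∀ m : ℤ, DCoh.IsPseudoCoherentD m A)
    (m : ℤ) : T c m (A ⊗ M) := by
  obtain ⟨b, hb⟩ := PerfB.PCDesc.exists_isLE_of_pc _ (hM 0)
  have hb' : M.IsLE b := isLE_of_isLE_pushD c M b hb
  refine pc_of_unit (tensorRight M ⋙ pushD c) ((isTriang_tensorRight M).comp (isTriang_pushD c)) b
    (fun C a _ hC => ?_) (fun m => pc_of_iso ((pushD c).mapIso (unitTensor M).symm) (hM m)) A hA m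
  have := isLE_tensor C M a b
  exact isLE_pushD c _ _ this

/-- `i_* Li^* M ≅ i_* O ⊗^L M`. -/
theorem nonempty_push_lpull (i : X ⟶ Y) [IsClosedImmersion i] [DCoh.HasLpull i] (M : DCoh.D Y) :
    Nonempty ((pushD i).obj ((DCoh.Lpull i).obj M) ≅
      DCoh.inD Y ((Scheme.Modules.pushforward i).obj (Coh.structureModule X)) ⊗ M) := by
  obtain ⟨e⟩ := Dcoh.MonSymm293.weakSymm (X := Y)
    (DerivedCategory.Q.obj (Dual.H369.TensClosed.E₀ i))
  exact ⟨(Dual.H369.TensClosed.tensorRightIso i).app M ≪≫ (e.app M).symm ≪≫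
    whiskerRightIso ((DerivedCategory.singleFunctorIsoCompQ Y.Modules 0).symm.app _) M⟩

section Main

variable {f : X ⟶ Y} {g : Y ⟶ Z}

/-- The restriction of `Lf^* G` to the open piece of a tower. -/
theorem nonempty_restrict_lpull (τ : Tower f g) [DCoh.HasLpull f] [DCoh.HasLpull τ.i]
    (G : DCoh.D Y) :
    Nonempty ((restrictD τ.j).obj ((DCoh.Lpull f).obj G) ≅ (DCoh.Lpull τ.i).obj
      ((pullbackD (pullback.snd τ.t τ.E.i)).obj ((restrictD τ.E.j).obj G))) := by
  have h1 := Dcoh.DerPull.hasLpull τ.j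
  have h2 := Dcoh.DerPull.hasLpull (τ.j ≫ f)
  have h3 := Dcoh.DerPull.hasLpull (pullback.snd τ.t τ.E.i)
  have h4 := Dcoh.DerPull.hasLpull τ.E.j
  have h5 := Dcoh.DerPull.hasLpull (pullback.snd τ.t τ.E.i ≫ τ.E.j)
  have h6 := Dcoh.DerPull.hasLpull (τ.i ≫ pullback.snd τ.t τ.E.i ≫ τ.E.j)
  have e : τ.j ≫ f = τ.i ≫ pullback.snd τ.t τ.E.i ≫ τ.E.j := by
    rw [← Category.assoc, τ.i_snd, τ.wh]
  exact ⟨(Dcoh.DerPull.lpullOpenIso τ.j).symm.app _ ≪≫ (Dcoh.DerPull.lpullCompIso τ.j f).app G ≪≫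
    (Dcoh.DerPull.lpullCongr e).app G ≪≫ (Dcoh.DerPull.lpullCompIso τ.i _).symm.app G ≪≫
    (DCoh.Lpull τ.i).mapIso ((Dcoh.DerPull.lpullCompIso (pullback.snd τ.t τ.E.i) τ.E.j).symm.app G ≪≫
      (DCoh.Lpull _).mapIso ((Dcoh.DerPull.lpullOpenIso τ.E.j).app G) ≪≫
      (lpullIso (pullback.snd τ.t τ.E.i)).app _)⟩

/-- **Derived pullback and relative pseudo-coherence**: if `f` is pseudo-coherent and `G` is
pseudo-coherent relative to `g`, then `Lf^* G` is pseudo-coherent relative to `f ≫ g`. -/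
theorem isPseudoCoherentRel_Lpull [LocallyOfFiniteType f] [LocallyOfFiniteType g]
    (hf : ∀ n : ℤ, DerSch.IsNPseudoCoherent f n) [DCoh.HasLpull f] (G : DCoh.D Y)
    (hG : DerSch.IsPseudoCoherentRelAll g G) :
    DerSch.IsPseudoCoherentRelAll (f ≫ g) ((DCoh.Lpull f).obj G) := by
  intro m
  refine isPseudoCoherentRel_of_data fun x => ?_
  obtain ⟨τ, u, hu, a1, a2, a3, a4⟩ := exists_tower f g x
  refine ⟨τ.bot, u, hu, ?_⟩
  rw [τ.bot_test_iff]
  have h1 := Dcoh.DerPull.hasLpull τ.i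
  obtain ⟨e1⟩ := nonempty_restrict_lpull τ G
  obtain ⟨e2⟩ := nonempty_push_lpull τ.i
    ((pullbackD (pullback.snd τ.t τ.E.i)).obj ((restrictD τ.E.j).obj G))
  have a5 : IsAffine (pullback τ.t τ.E.i) := isAffine_of_isAffineHom τ.c
  have hM (m : ℤ) : T τ.c m
      ((pullbackD (pullback.snd τ.t τ.E.i)).obj ((restrictD τ.E.j).obj G)) :=
    T_pullback τ.isPullback_c (test_of_isPseudoCoherentRel (hG m) τ.E)
  exact pc_of_iso ((pushD τ.c).mapIso ((pushD τ.i).mapIso e1 ≪≫ e2).symm)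
    (pc_push_tensor τ.c _ hM _ (PO_of_isNPseudoCoherent hf τ.top) m)

end Main

end K240.RelLpull
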