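import Groth.Agent.KSix.K240.RelComp
import Groth.Agent.Dual.H337.CohR

/-!
# Relative pseudo-coherence over a locally Noetherian base is absolute pseudo-coherence
-/

set_option autoImplicit false
universe u
open CategoryTheory CategoryTheory.Limits AlgebraicGeometry CategoryTheory.Pretriangulated
open Groth.Agent.PerfA Groth.Agent.PerfA.Restrict Groth.Agent.PerfC.PcLocal
open Groth.Agent.PerfC.ClosedImmPc K240.PushTest K240.ChartChange K240.RelData K240.RelChart
open K240.RelBasic
attribute [local instance] HasDerivedCategory.standard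

namespace K240.RelNoeth

variable {X Y : Scheme.{u}} {f : X ⟶ Y}

lemma PO_of_noetherian [IsLocallyNoetherian Y] (D : Datum f) : PO D.i := by
  have : IsLocallyNoetherian D.P := LocallyOfFiniteType.isLocallyNoetherian D.p
  exact fun m => Groth.Agent.Dual.H337.CohR.pc_push D.i m

lemma test_iff_of_noetherian [IsLocallyNoetherian Y] (D : Datum f) (m : ℤ) (K : DCoh.D X) :
    D.test m K ↔ DCoh.IsPseudoCoherentD m ((restrictD D.j).obj K) :=
  (iff_pushD D.i (PO_of_noetherian D) _ m).symm

/-- Over a locally Noetherian base, relative pseudo-coherence is absolute pseudo-coherence. -/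
theorem isPseudoCoherentRel_iff_of_noetherian [IsLocallyNoetherian Y] [LocallyOfFiniteType f]
    (m : ℤ) (K : DCoh.D X) :
    DerSch.IsPseudoCoherentRel f m K ↔ DCoh.IsPseudoCoherentD m K := by
  constructor
  · intro h
    refine pc_of_cover _ fun x => ?_
    obtain ⟨D, w, hw, -, -⟩ := exists_datum f x ⊤ trivial
    exact ⟨D.W, D.j, inferInstance, w, hw,
      (test_iff_of_noetherian D m K).1 (test_of_isPseudoCoherentRel h D)⟩
  · intro h
    rw [isPseudoCoherentRel_iff_forall]
    exact fun D => (test_iff_of_noetherian D m K).2 (pc_restrict D.j h)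

/-- Over a locally Noetherian base, relative pseudo-coherence is absolute pseudo-coherence. -/
theorem isPseudoCoherentRelAll_iff_of_noetherian [IsLocallyNoetherian Y] [LocallyOfFiniteType f]
    (K : DCoh.D X) :
    DerSch.IsPseudoCoherentRelAll f K ↔ ∀ m : ℤ, DCoh.IsPseudoCoherentD m K :=
  forall_congr' fun m => isPseudoCoherentRel_iff_of_noetherian m K

end K240.RelNoeth
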