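import Groth.Agent.KSix.K240.RelBasic
import Groth.Agent.Dual.H336.ReflectQC
import Groth.Agent.PerfA.PCohQCoh

/-!
# Relatively pseudo-coherent objects have quasi-coherent cohomology
-/

set_option autoImplicit false
universe u
open CategoryTheory CategoryTheory.Limits AlgebraicGeometry
open Groth.Agent.PerfA Groth.Agent.PerfA.Restrict K240.PushTest K240.RelData K240.RelChart
attribute [local instance] HasDerivedCategory.standard

namespace K240.RelQCoh

variable {X Y : Scheme.{u}} {f : X ⟶ Y}

theorem isQCohD_of_rel {K : DCoh.D X} (h : DerSch.IsPseudoCoherentRelAll f K) :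
    DCoh.IsQCohD K := by
  have := (h 0).1
  refine Groth.Agent.PerfA.QCohD.isQCohD_of_restrictD K fun x => ?_
  obtain ⟨D, w, hw, -, -⟩ := exists_datum f x ⊤ trivial
  refine ⟨D.W, D.j, inferInstance, w, hw, ?_⟩
  exact Groth.Agent.Dual.H336.ReflectQC.isQCohD_of_pushD D.i
    (PCohQCoh.isQCohD_of_isPseudoCoherentD fun m => test_of_isPseudoCoherentRel (h m) D)

end K240.RelQCoh
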