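import Groth.Agent.KSix.K240.RelNoeth
import Groth.Agent.Dual.H379.PerfPush

/-!
# Direct images of pseudo-coherent objects along proper morphisms over a locally Noetherian base
-/

set_option autoImplicit false
universe u
open CategoryTheory CategoryTheory.Limits AlgebraicGeometry CategoryTheory.Pretriangulated
open Groth.Agent Groth.Agent.PerfA Groth.Agent.PerfA.Restrict Groth.Agent.PerfC.PcLocal
open K240.RelNoeth
attribute [local instance] HasDerivedCategory.standard

namespace K240.RpushNoeth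

variable {X Y S : Scheme.{u}}

/-- `Rf_*` of a pseudo-coherent bounded below object, `f` proper, `Y` Noetherian. -/
theorem exists_bounds [IsNoetherian Y] (f : X ⟶ Y) [IsProper f] [DCoh.HasRpush f] (E : DCoh.D X)
    (a : ℤ) [E.IsGE a] (hE : ∀ m : ℤ, DCoh.IsPseudoCoherentD m E) :
    (∃ c : ℤ, ((DCoh.Rpush f).obj E).IsLE c) ∧ ((DCoh.Rpush f).obj E).IsGE a ∧
      ∀ m : ℤ, DCoh.IsPseudoCoherentD m ((DCoh.Rpush f).obj E) := by
  have hX : IsNoetherian X := by
    have : IsLocallyNoetherian X := LocallyOfFiniteType.isLocallyNoetherian f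
    have : CompactSpace X := QuasiCompact.compactSpace_of_compactSpace f
    exact {}
  obtain ⟨b, hb⟩ := PerfB.PCDesc.exists_isLE_of_pc E (hE 0)
  have hcoh : DCoh.IsCohD E := fun i => PerfB.PCNoeth.isCoh_of_pc E (i - 1) (hE _) i (by omega)
  obtain ⟨h1, h2, b', h3⟩ := S1001.result f E a b hcoh (fun i =>
    PerfB.StructFlat.isProperOver_of_isProper f _ (S0020.result X _ (hcoh i).2))
  have hq : DCoh.IsQCohD ((DCoh.Rpush f).obj E) := fun i => (h1 i).1
  exact ⟨⟨b', h3⟩, h2, fun m => (S1039.result Y _ hq m).2 ⟨fun i _ => h1 i, b', h3⟩⟩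

/-- `Rf_*` of a pseudo-coherent bounded below object, `f` proper, `Y` locally Noetherian. -/
theorem isPseudoCoherentD_Rpush [IsLocallyNoetherian Y] (f : X ⟶ Y) [IsProper f]
    [DCoh.HasRpush f] (E : DCoh.D X) (a : ℤ) [E.IsGE a]
    (hE : ∀ m : ℤ, DCoh.IsPseudoCoherentD m E) (m : ℤ) :
    DCoh.IsPseudoCoherentD m ((DCoh.Rpush f).obj E) := by
  refine pc_of_cover _ fun y => ?_
  obtain ⟨V, hV, hyV, -⟩ := exists_isAffineOpen_mem_and_subset (U := (⊤ : Y.Opens)) (x := y)
    (TopologicalSpace.Opens.mem_top _)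
  have hVc : CompactSpace V := isCompact_iff_compactSpace.1 hV.isCompact
  have hVn : IsNoetherian V := {}
  have h0 : DCoh.HasRpush (f ∣_ V) := Dcoh.DerSch.hasRpush _
  obtain ⟨e⟩ := Dcoh.DerSch.exists_rpushRestrictIso f (f ∣_ V) (f ⁻¹ᵁ V).ι V.ι
    (isPullback_morphismRestrict f V).flip
  have h1 : ((restrictD (f ⁻¹ᵁ V).ι).obj E).IsGE a := ExactD.isGE_map _ E a
  have h2 := (exists_bounds (f ∣_ V) ((restrictD (f ⁻¹ᵁ V).ι).obj E) a
    (fun m => pc_restrict (f ⁻¹ᵁ V).ι (hE m))).2.2 m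
  exact ⟨V, V.ι, inferInstance, ⟨y, hyV⟩, rfl, pc_of_iso (e.app E).symm h2⟩

/-- Relative version over a locally Noetherian base. -/
theorem isPseudoCoherentRelAll_Rpush [IsLocallyNoetherian S] (p : X ⟶ S) (q : Y ⟶ S)
    [LocallyOfFiniteType p] [LocallyOfFiniteType q] (f : X ⟶ Y) [IsProper f] [DCoh.HasRpush f]
    (E : DCoh.D X) (a : ℤ) [E.IsGE a] (hE : DerSch.IsPseudoCoherentRelAll p E) :
    DerSch.IsPseudoCoherentRelAll q ((DCoh.Rpush f).obj E) := by
  have : IsLocallyNoetherian Y := LocallyOfFiniteType.isLocallyNoetherian q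
  rw [isPseudoCoherentRelAll_iff_of_noetherian] at hE ⊢
  exact fun m => isPseudoCoherentD_Rpush f E a hE m

end K240.RpushNoeth
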