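import Groth.Agent.KSix.K240.RelComp
import Groth.Agent.Dual.H338.PushAdj
import Groth.Agent.Fga.FSGeo
import Groth.Agent.S1106
import Groth.Agent.S0922
import Groth.Agent.Pic13.H561.ProjAmp
import Groth.Agent.Dix.ProjProper

/-!
# Direct images of relatively pseudo-coherent objects along projective morphisms, arbitrary base
-/

set_option autoImplicit false
universe u
open CategoryTheory CategoryTheory.Limits AlgebraicGeometry CategoryTheory.Pretriangulated
open Groth.Agent Groth.Agent.PerfA Groth.Agent.PerfA.Restrict Groth.Agent.PerfC.PcLocal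
open Groth.Agent.PerfC.ClosedImmPc K240.PushTest K240.RelData K240.RelChart K240.RelBasic
attribute [local instance] HasDerivedCategory.standard

namespace K240.RpushProj

variable {X Y S : Scheme.{u}}

/-- `Ri_*` is the termwise direct image for a closed immersion. -/
noncomputable def rpushIso (i : X ⟶ Y) [IsClosedImmersion i] [DCoh.HasRpush i] :
    DCoh.Rpush i ≅ pushD i :=
  Groth.Agent.Dual.H338.PushAdj.rpushIsoPushD i

/-- The direct image passes the test on a datum `V ⟶ N` over which the source is closed in a scheme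
proper, flat and of finite presentation over `N`. -/
theorem test_Rpush {q : Y ⟶ S} {f : X ⟶ Y} [DCoh.HasRpush f] (D : Datum q) {XV Q : Scheme.{u}}
    (jV : XV ⟶ X) [IsOpenImmersion jV] (fV : XV ⟶ D.W) (sq : IsPullback jV fV f D.j) (k : XV ⟶ Q)
    [IsClosedImmersion k] (π : Q ⟶ D.P) [IsProper π] [Flat π] [LocallyOfFinitePresentation π]
    (w : k ≫ π = fV ≫ D.i) (E : DCoh.D X)
    (hE : ∀ m : ℤ, DerSch.IsPseudoCoherentRel (f ≫ q) m E) (m : ℤ) :
    D.test m ((DCoh.Rpush f).obj E) := by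
  let D' : Datum (f ≫ q) :=
    { W := XV
      P := Q
      j := jV
      i := k
      p := π ≫ D.p
      open_j := inferInstance
      closed_i := inferInstance
      flat_p := inferInstance
      fp_p := inferInstance
      w := by rw [← Category.assoc, w, Category.assoc, D.w, ← Category.assoc, ← sq.w,
        Category.assoc] }
  have h1 : ∀ m, T k m ((restrictD jV).obj E) := fun m => test_of_isPseudoCoherentRel (hE m) D'
  have i1 := Dcoh.DerSch.hasRpush π
  have i2 := Dcoh.DerSch.hasRpush k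
  have i3 := Dcoh.DerSch.hasRpush fV
  have i4 := Dcoh.DerSch.hasRpush D.i
  have i5 := Dcoh.DerSch.hasRpush (k ≫ π)
  have i6 := Dcoh.DerSch.hasRpush (fV ≫ D.i)
  have h2 := S1106.result π ((pushD k).obj ((restrictD jV).obj E)) h1 m
  obtain ⟨e2⟩ := S0922.result k π
  obtain ⟨e3⟩ := S0922.result fV D.i
  obtain ⟨e5⟩ := Dcoh.DerSch.exists_rpushRestrictIso f fV jV D.j sq
  have e6 : DCoh.Rpush (k ≫ π) ≅ DCoh.Rpush (fV ≫ D.i) := by
    simp only [w]; exact Iso.refl _
  refine pc_of_iso ?_ h2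
  exact (DCoh.Rpush π).mapIso ((rpushIso k).symm.app _) ≪≫ e2.app _ ≪≫ e6.app _ ≪≫ e3.symm.app _ ≪≫
    (rpushIso D.i).app _ ≪≫ (pushD D.i).mapIso (e5.symm.app E)

/-- The closed immersion `X_V ⟶ P^r_N` for `X` closed in `P^r_Y`, and a closed immersion `V ⟶ N` of
an open piece of `Y`. -/
lemma exists_closed (r : ℕ) (i : X ⟶ CohB1.ProjSpaceOver r Y) [IsClosedImmersion i]
    {V N XV : Scheme.{u}} (j : V ⟶ Y) (c : V ⟶ N) [IsClosedImmersion c] (jV : XV ⟶ X)
    (fV : XV ⟶ V) (sq : IsPullback jV fV (i ≫ CohB1.ProjSpaceOver.toBase r Y) j) :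
    ∃ (k : XV ⟶ CohB1.ProjSpaceOver r N), IsClosedImmersion k ∧
      k ≫ CohB1.ProjSpaceOver.toBase r N = fV ≫ c := by
  have s1 := Fga.FSGeo.isPullback_projMap (n := r) j
  have s2 := Fga.FSGeo.isPullback_projMap (n := r) c
  have hc : IsClosedImmersion (FGA.projMap r c) := MorphismProperty.of_isPullback s2.flip ‹_›
  let iV : XV ⟶ CohB1.ProjSpaceOver r V := s1.lift (jV ≫ i) fV (by rw [Category.assoc]; exact sq.w)
  have h1 : iV ≫ FGA.projMap r j = jV ≫ i := s1.lift_fst _ _ _
  have h2 : iV ≫ CohB1.ProjSpaceOver.toBase r V = fV := s1.lift_snd _ _ _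
  have s3 : IsPullback jV iV i (FGA.projMap r j) :=
    (IsPullback.of_right (t := s1.flip) (h₁₁ := iV) (by rw [h2]; exact sq.flip) h1).flip
  have hiV : IsClosedImmersion iV := MorphismProperty.of_isPullback s3 ‹_›
  refine ⟨iV ≫ FGA.projMap r c, inferInstance, ?_⟩
  rw [Category.assoc, s2.w, ← Category.assoc, h2]

/-- Direct images along projective morphisms preserve relative pseudo-coherence. -/
theorem isPseudoCoherentRel_Rpush (q : Y ⟶ S) [LocallyOfFiniteType q] (r : ℕ)
    (i : X ⟶ CohB1.ProjSpaceOver r Y) [IsClosedImmersion i]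
    [DCoh.HasRpush (i ≫ CohB1.ProjSpaceOver.toBase r Y)] (E : DCoh.D X)
    (hE : DerSch.IsPseudoCoherentRelAll ((i ≫ CohB1.ProjSpaceOver.toBase r Y) ≫ q) E) :
    DerSch.IsPseudoCoherentRelAll q
      ((DCoh.Rpush (i ≫ CohB1.ProjSpaceOver.toBase r Y)).obj E) := by
  intro m
  rw [isPseudoCoherentRel_iff_forall]
  intro D
  have sq := (IsPullback.of_hasPullback (i ≫ CohB1.ProjSpaceOver.toBase r Y) D.j)
  obtain ⟨k, hk, w⟩ := exists_closed r i D.j D.i _ _ sq
  have h1 := Groth.Agent.Dix.ProjProper.isProper_toBase r D.P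
  have h2 := Groth.Agent.Pic13.H561.ProjAmp.flat_toBase r D.P
  have h3 := Groth.Agent.Pic13.H561.ProjAmp.locallyOfFinitePresentation_toBase r D.P
  exact test_Rpush D _ _ sq k _ w E hE m

end K240.RpushProj
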