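import Groth.Agent.KSix.K240.TorPush2
import Groth.Agent.KSix.K238.RingInD
import Groth.Agent.S6200
import Groth.Agent.S6947
import Groth.Agent.Dcoh.LTMod
import Groth.Agent.CycB.PushStalk

/-!
# Relative and absolute tor amplitude

* `torAmp_shrink`: shrinking the upper bound;
* `ampAbs_of_flat`: flat amplitude gives stalkwise amplitude;
* `locFiniteTorAmplitudeD_of_loc`: an object locally of finite tor dimension is locally of finite tor
  amplitude relative to a morphism locally of finite tor dimension;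
* `hasFlatAmplitudeIn_of_amp`, `locHasFiniteTorDim_of_amp`: back from the stalkwise amplitude relative to
  the identity.
-/

set_option autoImplicit false
universe u
open CategoryTheory CategoryTheory.Limits AlgebraicGeometry
attribute [local instance] HasDerivedCategory.standard

namespace K240.TorAbs

open DerivedCategory Groth.Agent Groth.Agent.Dcoh Groth.Agent.Dcoh.Stalk K238.StalkD K240.TorPush
  Groth.Agent.PerfA.Restrict K240.TorPush2 K240.TorTen K240.AmpLoc

section Ring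

variable {A : Type u} [CommRing A]

/-- The upper bound of the tor amplitude can be lowered to an upper bound of the cohomology. -/
theorem torAmp_shrink {K : Dual.D A} {a b b' : ℤ} (h : DRing.HasTorAmplitudeIn A a b K)
    (hb : ∀ i : ℤ, b' < i → Subsingleton (Dual.HD A K i)) : DRing.HasTorAmplitudeIn A a b' K := by
  have i1 (M : ModuleCat.{u} A) : DRing.HasLTensor A M := LoccohB.LBC.hasLTensor M
  have h0 := (K227.TorCrit.torAmp_iff_lten K a b).1 h
  rw [K227.TorCrit.torAmp_iff_lten]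
  rintro N i (hi | hi)
  · exact h0 N i (Or.inl hi)
  · obtain ⟨P, hP, hP', ⟨eP⟩⟩ := K227.PerfFlat.exists_projective_rep K b' hb
    have hPf : DRing.TermwiseFlat P := fun i => Flat2C.TorAmpRestr.flat_of_projective (hP' i)
    obtain ⟨e'⟩ := K227.LbcFlat.nonempty_lten_iso N P b' hP hPf
    refine K227.TorCrit.subsingleton_HD_of_iso (e'.symm ≪≫ (DRing.LTensor A N).mapIso eP) i ?_
    rw [← K227.TorCrit.exactAt_iff_subsingleton_HD]
    exact HomologicalComplex.ExactAt.of_isZero
      ((MonoidalCategory.tensorRight N).map_isZero (hP i hi))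

end Ring

variable {X Y S : Scheme.{u}}

/-- The stalk of the structure sheaf. -/
noncomputable def unitMod (x : X) :
    (stalkF x).obj (Coh.structureModule X) ≅ ModuleCat.of (X.presheaf.stalk x) (X.presheaf.stalk x) :=
  LinearEquiv.toModuleIso (X₁ := (Coh.structureModule X).presheaf.stalk x)
    (X₂ := X.presheaf.stalk x) (CycB.PushStalk.unitStalk X x).symm

/-- `(O_X[0])_x` over `O_{Y, f x}`. -/
noncomputable def stalkOverUnit (f : X ⟶ Y) (x : X) :
    (stalkOverD f x).obj (DCoh.toD X (DerSch.unitCx X)) ≅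
      (DRing.restrictD (f.stalkMap x).hom).obj
        (Dual.inD (X.presheaf.stalk x) (X.presheaf.stalk x)) :=
  (DRing.restrictD (f.stalkMap x).hom).mapIso ((stalkD x).mapIso
    ((DerivedCategory.singleFunctorIsoCompQ X.Modules 0).symm.app _) ≪≫
      ((stalkF x).mapDerivedCategorySingleFunctor 0).app (Coh.structureModule X) ≪≫
        (DerivedCategory.singleFunctor _ 0).mapIso (unitMod x))

/-- Absolute and relative amplitude at a point. -/
theorem amp_of_abs (f : X ⟶ Y) (x : X) {c e : ℤ}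
    (hf : DRing.HasTorAmplitudeIn (Y.presheaf.stalk (f.base x)) c e
      ((stalkOverD f x).obj (DCoh.toD X (DerSch.unitCx X)))) (E : DCoh.D X) {a b : ℤ}
    (hE : DRing.HasTorAmplitudeIn (X.presheaf.stalk x) a b ((stalkD x).obj E)) :
    DRing.HasTorAmplitudeIn (Y.presheaf.stalk (f.base x)) (a - (-c).toNat) b
      ((stalkOverD f x).obj E) := by
  let _ := (f.stalkMap x).hom.toAlgebra
  have h1 := torAmp_of_iso (stalkOverUnit f x ≪≫ K238.RingInD.inDSelf
    (A := Y.presheaf.stalk (f.base x)) (B := X.presheaf.stalk x)) hf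
  have h2 : DRing.HasTorAmplitudeIn (Y.presheaf.stalk (f.base x)) (-(((-c).toNat : ℕ) : ℤ)) 0
      (Dual.inD (Y.presheaf.stalk (f.base x)) (X.presheaf.stalk x)) := by
    refine torAmp_mono (a := c) (b := 0) (by omega) le_rfl (torAmp_shrink h1 fun i hi => ?_)
    exact ModuleCat.subsingleton_of_isZero (DerivedCategory.isZero_of_isLE _ 0 i hi)
  exact S6947.result _ h2 _ a b hE

/-- Flat amplitude gives the stalkwise amplitude. -/
theorem ampAbs_of_flat {K : DCoh.D X} {a b : ℤ} (h : DCoh.HasFlatAmplitudeIn a b K) (x : X) :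
    DRing.HasTorAmplitudeIn (X.presheaf.stalk x) a b ((stalkD x).obj K) := by
  obtain ⟨E, h1, h2, ⟨e⟩⟩ := h
  exact ⟨((stalkF x).mapHomologicalComplex (ComplexShape.up ℤ)).obj E,
    fun i hi => (stalkF x).map_isZero (h1 i hi), fun i => h2 i x,
    ⟨((stalkF x).mapDerivedCategoryFactors.app E).symm ≪≫ (stalkD x).mapIso e⟩⟩

/-- Amplitude at a point of an open. -/
theorem ampAbs_restrict_iff (j : X ⟶ Y) [IsOpenImmersion j] (x : X) (a b : ℤ) (K : DCoh.D Y) :
    DRing.HasTorAmplitudeIn (X.presheaf.stalk x) a b ((stalkD x).obj ((restrictD j).obj K)) ↔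
      DRing.HasTorAmplitudeIn (Y.presheaf.stalk (j.base x)) a b ((stalkD (j.base x)).obj K) :=
  (torAmp_restrict_iff _ (bijective_stalkMap j x) a b _).symm.trans
    (torAmp_iff_of_iso ((restrictStalkD j x).app K))

/-- Objects locally of finite tor dimension, relative to a morphism locally of finite tor dimension. -/
theorem locFiniteTorAmplitudeD_of_loc (f : X ⟶ Y) (hf : DerSch.LocFiniteTorDim f) (K : DCoh.D X)
    (hK : DCoh.LocHasFiniteTorDim K) : DerSch.LocFiniteTorAmplitudeD f K := by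
  rw [locFiniteTorAmplitudeD_iff]
  rw [DerSch.LocFiniteTorDim, locFiniteTorAmplitude_iff] at hf
  intro x
  obtain ⟨V₁, a, b, hx₁, h₁⟩ := hK x
  obtain ⟨V₂, c, e, hx₂, h₂⟩ := hf x
  refine ⟨V₁ ⊓ V₂, a - (-c).toNat, b, ⟨hx₁, hx₂⟩, fun x' hx' => ?_⟩
  refine amp_of_abs f x' (h₂ x' hx'.2) K ?_
  have h3 := h₁ (Q.objPreimage K) ⟨Q.objObjPreimageIso K⟩
  have h4 := ampAbs_of_flat h3 ⟨x', hx'.1⟩
  refine (ampAbs_restrict_iff V₁.ι ⟨x', hx'.1⟩ a b K).1 (torAmp_of_iso ((stalkD _).mapIso ?_) h4)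
  exact (restrictDQ V₁.ι _).symm ≪≫ (restrictD V₁.ι).mapIso (Q.objObjPreimageIso K)

/-- Stalkwise amplitude relative to the identity gives flat amplitude. -/
theorem hasFlatAmplitudeIn_of_amp {K : DCoh.D X} {a b : ℤ}
    (h : ∀ x : X, DRing.HasTorAmplitudeIn (X.presheaf.stalk ((𝟙 X : X ⟶ X).base x)) a b
      ((stalkOverD (𝟙 X) x).obj K)) : DCoh.HasFlatAmplitudeIn a b K := by
  have h1 := (bounds_of_amp (𝟙 X) K h).2
  have h2 : (DCoh.toD X (Q.objPreimage K)).IsLE b :=
    DerivedCategory.TStructure.t.isLE_of_iso (Q.objObjPreimageIso K).symm b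
  obtain ⟨E, h3, h4, ⟨e⟩⟩ := (S6200.result (Q.objPreimage K) b a b).2
    (((hasTorAmplitudeD_iff (𝟙 X) a b K).2 h) _ ⟨Q.objObjPreimageIso K⟩)
  exact ⟨E, h3, h4, ⟨e ≪≫ Q.objObjPreimageIso K⟩⟩

/-- Local version. -/
theorem locHasFiniteTorDim_of_amp {K : DCoh.D X} (h : DerSch.LocFiniteTorAmplitudeD (𝟙 X) K) :
    DCoh.LocHasFiniteTorDim K := by
  rw [locFiniteTorAmplitudeD_iff] at h
  intro x
  obtain ⟨V, a, b, hx, hV⟩ := h x
  refine ⟨V, a, b, hx, fun F' hF' => ?_⟩
  obtain ⟨e⟩ := hF'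
  have h1 : DCoh.HasFlatAmplitudeIn a b ((restrictD V.ι).obj K) := by
    refine hasFlatAmplitudeIn_of_amp fun v => ?_
    have h2 := (amp_restrict_iff V.ι (𝟙 X) v a b K).2 (hV v.1 v.2)
    have w : V.ι ≫ 𝟙 X = 𝟙 V.toScheme ≫ V.ι := by rw [Category.comp_id, Category.id_comp]
    exact (amp_comp_open_iff (𝟙 V.toScheme) V.ι v a b _).1 ((amp_congr w v a b _).1 h2)
  obtain ⟨E, h3, h4, ⟨e'⟩⟩ := h1
  exact ⟨E, h3, h4, ⟨e' ≪≫ (restrictD V.ι).mapIso e.symm ≪≫ restrictDQ V.ι F'⟩⟩

end K240.TorAbs
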