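import Groth.Agent.KSix.K240.SmoothTor
import Groth.Agent.KSix.K240.TorAbs

/-!
# Closed subschemes of smooth schemes and tor amplitude

`ampAbs_push`: the amplitude of `i_* F` over the local rings of `X'`, for `i : X → X'` a closed immersion and
`f' : X' → Y` flat such that the modules over the local rings of `X'` which are flat over `Y` have tor dimension
`≤ d`.
-/

set_option autoImplicit false
universe u
open CategoryTheory CategoryTheory.Limits AlgebraicGeometry
attribute [local instance] HasDerivedCategory.standard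

namespace K240.SmoothPush

open DerivedCategory Groth.Agent Groth.Agent.Dcoh Groth.Agent.Dcoh.Stalk K238.StalkD K238.PushClosed
  K240.TorAbs K240.AmpLoc K240.TorMod K240.SmoothTor Groth.Agent.PerfA.Restrict

variable {X Y X' : Scheme.{u}}

theorem isZero_stalkD {x : X} (G : CochainComplex X.Modules ℤ) (h : ∀ n, Subsingleton ((G.X n).presheaf.stalk x)) :
    IsZero ((stalkD x).obj (DCoh.toD X G)) := by
  refine IsZero.of_iso ?_ ((stalkF x).mapDerivedCategoryFactors.app G)
  refine Q.map_isZero ?_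
  rw [IsZero.iff_id_eq_zero]
  ext n : 1
  have h1 : Subsingleton ((stalkF x).obj (G.X n)) := h n
  exact (ModuleCat.isZero_of_subsingleton _ : IsZero ((stalkF x).obj (G.X n))).eq_of_src _ _

theorem isZero_stalkD_push (i : X ⟶ Y) [IsClosedImmersion i] (y : Y) (hy : y ∉ Set.range i.base)
    (F : CochainComplex X.Modules ℤ) :
    IsZero ((stalkD y).obj (DCoh.toD Y
      (((Scheme.Modules.pushforward i).mapHomologicalComplex (ComplexShape.up ℤ)).obj F))) := by
  refine isZero_stalkD _ fun n => CycB.PushStalk.subsingleton_stalk_push i (F.X n) y ?_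
  rwa [i.isClosedEmbedding.isClosed_range.closure_eq]

/-- The amplitude of `i_* F` over the local ring at `y`. -/
theorem ampAbs_push (i : X ⟶ X') [IsClosedImmersion i] (f' : X' ⟶ Y) [Flat f']
    (F : CochainComplex X.Modules ℤ) (a b : ℤ) (d : ℕ) (y : X')
    (hmod : ∀ C : ModuleCat.{u} (X'.presheaf.stalk y), Module.Flat (Y.presheaf.stalk (f' y))
      ((ModuleCat.restrictScalars.{u} (f'.stalkMap y).hom).obj C) →
      DRing.HasTorDimLE (X'.presheaf.stalk y) d C)
    (h : ∀ x : X, i.base x = y → DRing.HasTorAmplitudeIn (Y.presheaf.stalk ((i ≫ f').base x)) a b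
      ((stalkOverD (i ≫ f') x).obj (DCoh.toD X F))) :
    DRing.HasTorAmplitudeIn (X'.presheaf.stalk y) (a - d) b ((stalkD y).obj (DCoh.toD X'
      (((Scheme.Modules.pushforward i).mapHomologicalComplex (ComplexShape.up ℤ)).obj F))) := by
  by_cases hy : y ∈ Set.range i.base
  · obtain ⟨x, rfl⟩ := hy
    refine torAmp_of_restrict (f'.stalkMap (i.base x)).hom (flat_restrict _ (Flat.stalkMap f' _)) d hmod a b _ ?_
    exact torAmp_of_iso (pushStalkOverD i i.isClosedEmbedding.isInducing f' x F).symm (h x rfl)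
  · exact torAmp_of_isZero (isZero_stalkD_push i y hy F) _ _

theorem hasFlatAmplitudeIn_of_abs {K : DCoh.D X} {a b : ℤ}
    (h : ∀ x : X, DRing.HasTorAmplitudeIn (X.presheaf.stalk x) a b ((stalkD x).obj K)) :
    DCoh.HasFlatAmplitudeIn a b K :=
  hasFlatAmplitudeIn_of_amp fun x =>
    (torAmp_restrict_iff ((𝟙 X : X ⟶ X).stalkMap x).hom (bijective_stalkMap (𝟙 X) x) a b _).2 (h x)

theorem locHasFiniteTorDim_of_abs {K : DCoh.D X}
    (h : ∀ x : X, ∃ (V : X.Opens) (a b : ℤ), x ∈ V ∧ ∀ x' : X, x' ∈ V →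
      DRing.HasTorAmplitudeIn (X.presheaf.stalk x') a b ((stalkD x').obj K)) :
    DCoh.LocHasFiniteTorDim K := by
  refine locHasFiniteTorDim_of_amp ((locFiniteTorAmplitudeD_iff (𝟙 X) K).2 fun x => ?_)
  obtain ⟨V, a, b, hx, hV⟩ := h x
  exact ⟨V, a, b, hx, fun x' hx' =>
    (torAmp_restrict_iff ((𝟙 X : X ⟶ X).stalkMap x').hom (bijective_stalkMap (𝟙 X) x') a b _).2 (hV x' hx')⟩

/-- `S6190`. -/
theorem hasFlatAmplitudeIn_push (i : X ⟶ X') [IsClosedImmersion i] (f' : X' ⟶ Y) [Smooth f'] (d : ℕ)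
    (hd : ∀ x : X', ∃ (n : ℕ) (V : X'.Opens), n ≤ d ∧ x ∈ V ∧ SmoothOfRelativeDimension n (V.ι ≫ f'))
    (F : CochainComplex X.Modules ℤ) (a b : ℤ) (hF : DerSch.HasTorAmplitude (i ≫ f') a b F) :
    DCoh.HasFlatAmplitudeIn (a - d) b (DCoh.toD X'
      (((Scheme.Modules.pushforward i).mapHomologicalComplex (ComplexShape.up ℤ)).obj F)) := by
  refine hasFlatAmplitudeIn_of_abs fun y => ?_
  obtain ⟨n, V, hn, hy, hV⟩ := hd y
  exact ampAbs_push i f' F a b d y (fun C hC => hasTorDimLE_stalk f' y hn V hy hV C hC)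
    fun x _ => (hasTorAmplitude_iff (i ≫ f') a b F).1 hF x

/-- `S6197`. -/
theorem locFiniteTorAmplitude_iff_push (i : X ⟶ X') [IsClosedImmersion i] (f' : X' ⟶ Y) [Smooth f']
    (F : CochainComplex X.Modules ℤ) :
    DerSch.LocFiniteTorAmplitude (i ≫ f') F ↔
      DCoh.LocHasFiniteTorDim (DCoh.toD X'
        (((Scheme.Modules.pushforward i).mapHomologicalComplex (ComplexShape.up ℤ)).obj F)) := by
  rw [locFiniteTorAmplitude_iff]
  constructor
  · intro h
    refine locHasFiniteTorDim_of_abs fun y => ?_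
    by_cases hy : y ∈ Set.range i.base
    · obtain ⟨x, rfl⟩ := hy
      obtain ⟨V, a, b, hx, hV⟩ := h x
      obtain ⟨n, U, hU, W, hW, hxW, e, h1⟩ := exists_chart_of_smooth f' (i.base x)
      obtain ⟨V₁, hV₁, hV₁V⟩ := i.isClosedEmbedding.isInducing.isOpen_iff.1 V.isOpen
      refine ⟨⟨V₁, hV₁⟩ ⊓ W, a - n, b, ⟨?_, hxW⟩, fun y hy => ?_⟩
      · change x ∈ i.base ⁻¹' V₁
        rw [hV₁V]
        exact hx
      · refine ampAbs_push i f' F a b n y
          (fun C hC => hasTorDimLE_stalk_of_chart f' hU hW e h1 y hy.2 C hC) fun x' hx' => hV x' ?_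
        have : x' ∈ i.base ⁻¹' V₁ := by
          change i.base x' ∈ V₁
          rw [hx']
          exact hy.1
        rw [hV₁V] at this
        exact this
    · refine ⟨⟨(Set.range i.base)ᶜ, i.isClosedEmbedding.isClosed_range.isOpen_compl⟩, 0, 0, hy,
        fun y hy => torAmp_of_isZero (isZero_stalkD_push i y hy F) _ _⟩
  · intro h x
    obtain ⟨V, a, b, hx, hV⟩ := h (i.base x)
    refine ⟨i ⁻¹ᵁ V, a, b, hx, fun x' hx' => ?_⟩
    have h3 := hV _ ⟨Iso.refl _⟩
    have h4 := ampAbs_of_flat h3 ⟨i.base x', hx'⟩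
    have h5 := (ampAbs_restrict_iff V.ι ⟨i.base x', hx'⟩ a b _).1
      (torAmp_of_iso ((stalkD _).mapIso (restrictDQ V.ι _).symm) h4)
    exact torAmp_of_iso (pushStalkOverD i i.isClosedEmbedding.isInducing f' x' F)
      (Flat2C.TorAmpRestr.hasTorAmplitudeIn_restrict (f'.stalkMap (i.base x')).hom
        (flat_restrict _ (Flat.stalkMap f' _)) a b _ h5)

end K240.SmoothPush
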