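import Groth.Agent.DRing.K227.TorMore
import Groth.Agent.DRing.K229.Devissage
import Groth.Agent.S6946
import Groth.Agent.Flat2C.TorAmpRestr

/-!
# Tor amplitude over an algebra from the tor amplitude over the base

`torAmp_of_restrict`: let `A → B` be flat such that every `B`-module flat over `A` has tor dimension
`≤ d` over `B`. If `K ∈ D(B)` has tor amplitude in `[a, b]` over `A`, it has tor amplitude in `[a - d, b]`
over `B`.
-/

set_option autoImplicit false
universe u
open CategoryTheory CategoryTheory.Limits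
attribute [local instance] HasDerivedCategory.standard

namespace K240.TorMod

open DerivedCategory Groth.Agent Groth.Agent.Flat2C.TorAmpCone Groth.Agent.Flat2C.TorAmpRestr DRing
  K227.PerfFlat

variable {A B : Type u} [CommRing A] [CommRing B]

/-- `M[-i]` for `M` of tor dimension `≤ d`. -/
lemma torAmp_single {d : ℕ} (M : ModuleCat.{u} B) (hM : DRing.HasTorDimLE B d M) (i : ℤ) :
    HasTorAmplitudeIn B (i - d) i ((singleFunctor (ModuleCat.{u} B) i).obj M) := by
  have h1 : HasTorAmplitudeIn B (-(d : ℤ)) 0 ((singleFunctor (ModuleCat.{u} B) 0).obj M) :=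
    (S6946.result B M d).1.1 hM
  have h2 := torAmp_shift (-i) h1
  rw [show -(d : ℤ) - -i = i - d by omega, show (0 : ℤ) - -i = i by omega] at h2
  exact torAmp_of_iso (((singleFunctors (ModuleCat.{u} B)).shiftIso (-i) i 0 (by omega)).app M) h2

open scoped ZeroObject in
lemma torAmp_of_isZero {K : Dual.D B} (h : IsZero K) (a b : ℤ) : HasTorAmplitudeIn B a b K := by
  refine ⟨0, fun i _ => (HomologicalComplex.eval _ _ i).map_isZero (isZero_zero _), fun i => ?_,
    ⟨(Q.map_isZero (isZero_zero _)).iso h⟩⟩
  have : Subsingleton ((0 : Cx B).X i) :=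
    ModuleCat.subsingleton_of_isZero ((HomologicalComplex.eval _ _ i).map_isZero (isZero_zero _))
  infer_instance

theorem torAmp_of_restrict (φ : A →+* B)
    (h1 : ∀ M : ModuleCat.{u} B, Module.Flat B M →
      Module.Flat A ((ModuleCat.restrictScalars.{u} φ).obj M)) (d : ℕ)
    (hmod : ∀ C : ModuleCat.{u} B, Module.Flat A ((ModuleCat.restrictScalars.{u} φ).obj C) →
      DRing.HasTorDimLE B d C) (a b : ℤ) (K : Dual.D B)
    (h : HasTorAmplitudeIn A a b ((restrictD φ).obj K)) : HasTorAmplitudeIn B (a - d) b K := by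
  obtain ⟨E, hE0, hEf, ⟨e⟩⟩ := h
  let K₀ : Cx B := DerivedCategory.Q.objPreimage K
  let eK : toD K₀ ≅ K := DerivedCategory.Q.objObjPreimageIso K
  have e₀ : toD ((restrictCx φ).obj K₀) ≅ toD E :=
    (restrictIso φ K₀).symm ≪≫ (restrictD φ).mapIso eK ≪≫ e.symm
  have hex : ∀ i, i < a ∨ b < i → K₀.ExactAt i := by
    intro i hi
    rw [← exactAt_restrict_iff φ]
    exact exactAt_of_iso e₀ i (HomologicalComplex.ExactAt.of_isZero (hE0 i hi))
  obtain ⟨P, p, hP0, hPp, hp⟩ := exists_projective_resolution K₀ b (fun i hi => hex i (Or.inr hi))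
  have hPf : TermwiseFlat P := fun i => flat_of_projective (hPp i)
  have eP : toD P ≅ toD K₀ := asIso (DerivedCategory.Q.map p)
  have eP' : toD ((restrictCx φ).obj P) ≅ toD E :=
    (restrictIso φ P).symm ≪≫ (restrictD φ).mapIso eP ≪≫ restrictIso φ K₀ ≪≫ e₀
  have hGE : P.IsGE a := by
    rw [CochainComplex.isGE_iff]
    intro i hi
    exact exactAt_of_iso eP i (hex i (Or.inl hi))
  -- the cokernel
  obtain ⟨h, hha⟩ : ∃ h, h + 1 = a := ⟨a - 1, by omega⟩
  have hC : Module.Flat A ((ModuleCat.restrictScalars.{u} φ).obj (ModuleCat.of B (Cok P h a))) := by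
    have hE : Module.Flat A (Cok E h a) := by
      have := hEf a
      have h0 : IsZero (E.X h) := hE0 h (Or.inl (by omega))
      have hs : Subsingleton (E.X h) := ModuleCat.subsingleton_of_isZero h0
      have hr : LinearMap.range (E.d h a).hom = ⊥ := by
        rw [LinearMap.range_eq_bot]
        ext x
        rw [Subsingleton.elim x 0, map_zero, map_zero]
      exact Module.Flat.of_linearEquiv (Submodule.quotEquivOfEqBot _ hr)
    rw [← flat_cok_iff_of_iso b ((restrictCx φ).obj P) E
      (fun i hi => (ModuleCat.restrictScalars φ).map_isZero (hP0 i hi))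
      (fun i hi => hE0 i (Or.inr hi)) (fun i => h1 _ (hPf i)) hEf eP' hha] at hE
    exact hE
  have hC' := hmod _ hC
  let S : ObjectProperty (Dual.D B) := fun X => HasTorAmplitudeIn B (a - d) b X
  have s1 : S.IsClosedUnderIsomorphisms := ⟨fun e h => torAmp_of_iso e h⟩
  have s2 : S.ContainsZero := ⟨⟨_, isZero_zero _, torAmp_of_isZero (isZero_zero _) _ _⟩⟩
  have s3 : S.IsTriangulatedClosed₂ := ⟨fun T hT h₁ h₃ => ObjectProperty.le_isoClosure _ _
    (K227.TorMore.torAmp_obj₂ hT h₁ h₃)⟩
  have key : S (Q.obj (P.truncGE a)) := by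
    refine K229.Devissage.termwise S (P.truncGE a) a (max a b) (fun i hi => ?_) (fun i => ?_)
    · rcases hi with hi | hi
      · exact CochainComplex.isZero_of_isStrictlyGE _ a i hi
      · exact IsZero.of_iso (hP0 i (by omega)) (P.truncGEXIso a i (by omega))
    · rcases lt_trichotomy i a with hi | hi | hi
      · exact S.prop_of_isZero ((singleFunctor _ i).map_isZero
          (CochainComplex.isZero_of_isStrictlyGE _ a i hi))
      · subst hi
        obtain ⟨e1⟩ := nonempty_opcycles_equiv P hha
        have e2 : (P.truncGE i).X i ≅ ModuleCat.of B (Cok P h i) :=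
          P.truncGEXIsoOpcycles i ≪≫ e1.toModuleIso
        refine S.prop_of_iso ((singleFunctor _ i).mapIso e2.symm) ?_
        by_cases hib : i ≤ b
        · exact torAmp_mono (a := i - d) (b := i) le_rfl hib (torAmp_single _ hC' i)
        · refine S.prop_of_isZero ((singleFunctor _ i).map_isZero (IsZero.of_iso ?_ e2.symm))
          refine IsZero.of_iso ?_ (P.truncGEXIsoOpcycles i)
          exact IsZero.of_epi (P.pOpcycles i) (hP0 i (by omega))
      · by_cases hib : i ≤ b
        · have h2 : Module.Flat B ((P.truncGE a).X i) := by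
            have := hPf i
            exact Module.Flat.of_linearEquiv (P.truncGEXIso a i hi).toLinearEquiv
          have h3 : DRing.HasTorDimLE B 0 ((P.truncGE a).X i) := (S6946.result B _ 0).2.2 h2
          have h4 := torAmp_single _ h3 i
          exact torAmp_mono (by push_cast; omega) hib h4
        · exact S.prop_of_isZero ((singleFunctor _ i).map_isZero
            (IsZero.of_iso (hP0 i (by omega)) (P.truncGEXIso a i hi)))
  exact torAmp_of_iso ((asIso (DerivedCategory.Q.map (P.πTruncGE a))).symm ≪≫ eP ≪≫ eK) key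

end K240.TorMod
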