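import Groth.Agent.LocInt.K822.TorSmooth
import Groth.Agent.KSix.K240.TorMod
import Mathlib.AlgebraicGeometry.Morphisms.Smooth
import Mathlib.AlgebraicGeometry.Morphisms.Flat
import Mathlib.RingTheory.Smooth.StandardSmoothCotangent

/-!
# Modules over the local rings of a smooth scheme

A module over `O_{X, x}` which is flat over `O_{Y, f x}` has tor dimension `≤ d` if `f` is smooth of relative
dimension `≤ d` near `x`.
-/

set_option autoImplicit false
universe u
open CategoryTheory CategoryTheory.Limits AlgebraicGeometry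

open scoped TensorProduct

namespace K240.SmoothTor

open Groth.Agent.Flat2H.TorDim

/-- Ring version. -/
theorem hasTorDimLE_of_chart {A₀ B₀ A B : Type u} [CommRing A₀] [CommRing B₀] [CommRing A] [CommRing B]
    [Algebra A₀ B₀] [Algebra A₀ A] [Algebra B₀ B] [Algebra A B] [Algebra A₀ B] [IsScalarTower A₀ A B]
    [IsScalarTower A₀ B₀ B] [Module.Flat A₀ A] [Module.Flat B₀ B] [Algebra.FormallyUnramified B₀ B]
    [Algebra.EssFiniteType B₀ B] [Nontrivial B₀] (n : ℕ) [Algebra.IsStandardSmoothOfRelativeDimension n A₀ B₀]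
    (C : Type u) [AddCommGroup C] [Module B C] [Module A C] [IsScalarTower A B C] [Module.Flat A C] :
    DRing.HasTorDimLE B n C := by
  let _ : Module A₀ C := Module.compHom C (algebraMap A₀ A)
  let _ : Module B₀ C := Module.compHom C (algebraMap B₀ B)
  have t1 : IsScalarTower A₀ A C := ⟨fun a b m => by
    change (a • b) • m = algebraMap A₀ A a • b • m
    rw [Algebra.smul_def, mul_smul]⟩
  have t2 : IsScalarTower B₀ B C := ⟨fun a b m => by
    change (a • b) • m = algebraMap B₀ B a • b • m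
    rw [Algebra.smul_def, mul_smul]⟩
  have t3 : IsScalarTower A₀ B₀ C := ⟨fun a b m => by
    change algebraMap B₀ B (a • b) • m = algebraMap A₀ A a • algebraMap B₀ B b • m
    rw [Algebra.smul_def a b, map_mul, mul_smul, ← IsScalarTower.algebraMap_apply,
      IsScalarTower.algebraMap_apply A₀ A B, algebraMap_smul]⟩
  have h0 : Module.Flat A₀ C := Module.Flat.trans A₀ A C
  have h1 : DRing.HasTorDimLE A₀ 0 C := (hasTorDimLE_zero_iff).2 h0
  have hst : Algebra.IsStandardSmooth A₀ B₀ :=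
    Algebra.IsStandardSmoothOfRelativeDimension.isStandardSmooth n
  have hn : ∀ p : PrimeSpectrum B₀, Module.rankAtStalk (Ω[B₀⁄A₀]) p = n := by
    intro p
    rw [Module.rankAtStalk_eq_finrank_of_free]
    change Module.finrank B₀ (Ω[B₀⁄A₀]) = n
    rw [Module.finrank,
      Algebra.IsStandardSmoothOfRelativeDimension.rank_kaehlerDifferential (R := A₀) (S := B₀) n]
    simp
  have h2 : DRing.HasTorDimLE B₀ (0 + n) C := K822.TorSmooth.hasTorDimLE_of_smooth A₀ B₀ hn C h1
  rw [zero_add] at h2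
  exact K822.TorSmooth.hasTorDimLE_of_unramified B₀ B C h2

/-- Scheme version: standard smooth charts. -/
theorem hasTorDimLE_stalk_of_chart {X Y : Scheme.{u}} (f : X ⟶ Y) {n : ℕ} {U : Y.Opens} (hU : IsAffineOpen U)
    {W : X.Opens} (hW : IsAffineOpen W) (e : W ≤ f ⁻¹ᵁ U)
    (h1 : (f.appLE U W e).hom.IsStandardSmoothOfRelativeDimension n) (x : X) (hx : x ∈ W)
    (C : ModuleCat.{u} (X.presheaf.stalk x))
    (hC : Module.Flat (Y.presheaf.stalk (f x))
      ((ModuleCat.restrictScalars.{u} (f.stalkMap x).hom).obj C)) :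
    DRing.HasTorDimLE (X.presheaf.stalk x) n C := by
  let _ : Algebra Γ(Y, U) Γ(X, W) := (f.appLE U W e).hom.toAlgebra
  let _ := Y.presheaf.algebra_section_stalk ⟨f x, e hx⟩
  let _ := X.presheaf.algebra_section_stalk ⟨x, hx⟩
  let _ : Algebra (Y.presheaf.stalk (f x)) (X.presheaf.stalk x) := (f.stalkMap x).hom.toAlgebra
  let _ : Algebra Γ(Y, U) (X.presheaf.stalk x) :=
    ((f.stalkMap x).hom.comp (algebraMap Γ(Y, U) (Y.presheaf.stalk (f x)))).toAlgebra
  have t1 : IsScalarTower Γ(Y, U) (Y.presheaf.stalk (f x)) (X.presheaf.stalk x) :=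
    IsScalarTower.of_algebraMap_eq fun _ => rfl
  have t2 : IsScalarTower Γ(Y, U) Γ(X, W) (X.presheaf.stalk x) := by
    refine IsScalarTower.of_algebraMap_eq fun s => ?_
    have h6 : f.appLE U W e ≫ X.presheaf.germ W x hx =
        f.app U ≫ X.presheaf.germ (f ⁻¹ᵁ U) x (e hx) := by
      rw [Scheme.Hom.appLE, Category.assoc, TopCat.Presheaf.germ_res]
    exact congr($((Scheme.Hom.germ_stalkMap f U x (e hx)).trans h6.symm) s)
  have l1 := hU.isLocalization_stalk ⟨f x, e hx⟩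
  have l2 := hW.isLocalization_stalk ⟨x, hx⟩
  have f1 : Module.Flat Γ(Y, U) (Y.presheaf.stalk (f x)) :=
    IsLocalization.flat _ (hU.primeIdealOf ⟨f x, e hx⟩).asIdeal.primeCompl
  have f2 : Module.Flat Γ(X, W) (X.presheaf.stalk x) :=
    IsLocalization.flat _ (hW.primeIdealOf ⟨x, hx⟩).asIdeal.primeCompl
  have f3 : Algebra.FormallyUnramified Γ(X, W) (X.presheaf.stalk x) :=
    Algebra.FormallyUnramified.of_isLocalization (hW.primeIdealOf ⟨x, hx⟩).asIdeal.primeCompl
  have f4 : Algebra.EssFiniteType Γ(X, W) (X.presheaf.stalk x) :=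
    Algebra.EssFiniteType.of_isLocalization _ (hW.primeIdealOf ⟨x, hx⟩).asIdeal.primeCompl
  have f5 : Nontrivial Γ(X, W) :=
    (algebraMap Γ(X, W) (X.presheaf.stalk x)).domain_nontrivial
  have f6 : Algebra.IsStandardSmoothOfRelativeDimension n Γ(Y, U) Γ(X, W) := h1
  let _ : Module (Y.presheaf.stalk (f x)) C :=
    Module.compHom C (f.stalkMap x).hom
  have t3 : IsScalarTower (Y.presheaf.stalk (f x)) (X.presheaf.stalk x) C := ⟨fun a b m => by
    change ((f.stalkMap x).hom a * b) • m = (f.stalkMap x).hom a • b • m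
    rw [mul_smul]⟩
  have f7 : Module.Flat (Y.presheaf.stalk (f x)) C := hC
  exact hasTorDimLE_of_chart (A₀ := Γ(Y, U)) (B₀ := Γ(X, W))
    (A := Y.presheaf.stalk (f x)) (B := X.presheaf.stalk x) n C

/-- Charts of a morphism which is smooth of relative dimension `n` on an open. -/
theorem exists_chart {X Y : Scheme.{u}} (f : X ⟶ Y) (x : X) (n : ℕ) (V : X.Opens)
    (hx : x ∈ V) (hV : SmoothOfRelativeDimension n (V.ι ≫ f)) :
    ∃ (U : Y.Opens) (_ : IsAffineOpen U) (W : X.Opens) (_ : IsAffineOpen W) (_ : x ∈ W)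
      (e : W ≤ f ⁻¹ᵁ U), (f.appLE U W e).hom.IsStandardSmoothOfRelativeDimension n := by
  obtain ⟨U, hU, W, hW, hz, e, hst⟩ := hV.exists_isStandardSmoothOfRelativeDimension ⟨x, hx⟩
  have hW' : IsAffineOpen (V.ι ''ᵁ W) := hW.image_of_isOpenImmersion V.ι
  have hxW' : x ∈ V.ι ''ᵁ W := ⟨_, hz, rfl⟩
  have e' : V.ι ''ᵁ W ≤ f ⁻¹ᵁ U := by
    rintro _ ⟨y, hy, rfl⟩
    exact e hy
  refine ⟨U, hU, V.ι ''ᵁ W, hW', hxW', e', ?_⟩
  have h2 : (V.ι ≫ f).appLE U W e = f.appLE U (V.ι ''ᵁ W) e' ≫ (V.ι.appIso W).hom := by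
    rw [Scheme.Hom.appIso_hom']
    exact (Scheme.Hom.appLE_comp_appLE V.ι f U (V.ι ''ᵁ W) W e' _).symm
  have h3 : f.appLE U (V.ι ''ᵁ W) e' = (V.ι ≫ f).appLE U W e ≫ (V.ι.appIso W).inv := by
    rw [h2, Category.assoc, Iso.hom_inv_id, Category.comp_id]
  rw [h3, CommRingCat.hom_comp, ← zero_add n]
  exact (RingHom.IsStandardSmoothOfRelativeDimension.equiv
    (V.ι.appIso W).symm.commRingCatIsoToRingEquiv).comp hst

/-- Charts of a smooth morphism. -/
theorem exists_chart_of_smooth {X Y : Scheme.{u}} (f : X ⟶ Y) [Smooth f] (x : X) :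
    ∃ (n : ℕ) (U : Y.Opens) (_ : IsAffineOpen U) (W : X.Opens) (_ : IsAffineOpen W) (_ : x ∈ W)
      (e : W ≤ f ⁻¹ᵁ U), (f.appLE U W e).hom.IsStandardSmoothOfRelativeDimension n := by
  obtain ⟨U, hU, W, hW, hx, e, hst⟩ := Smooth.exists_isStandardSmooth f x
  algebraize [(f.appLE U W e).hom]
  obtain ⟨ι, σ, hσ, hι, ⟨P⟩⟩ := hst.out
  exact ⟨P.dimension, U, hU, W, hW, hx, e, ⟨ι, σ, hσ, hι, P, rfl⟩⟩

/-- Version for a morphism smooth of relative dimension `n ≤ d` on an open. -/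
theorem hasTorDimLE_stalk {X Y : Scheme.{u}} (f : X ⟶ Y) (x : X) {d n : ℕ} (hn : n ≤ d) (V : X.Opens)
    (hx : x ∈ V) (hV : SmoothOfRelativeDimension n (V.ι ≫ f)) (C : ModuleCat.{u} (X.presheaf.stalk x))
    (hC : Module.Flat (Y.presheaf.stalk (f x))
      ((ModuleCat.restrictScalars.{u} (f.stalkMap x).hom).obj C)) :
    DRing.HasTorDimLE (X.presheaf.stalk x) d C := by
  obtain ⟨U, hU, W, hW, hxW, e, h1⟩ := exists_chart f x n V hx hV
  exact HasTorDimLE.mono (hasTorDimLE_stalk_of_chart f hU hW e h1 x hxW C hC) hn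

end K240.SmoothTor
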