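import Groth.Agent.KSix.K240.TorTen
import Groth.Agent.KSix.K240.AmpLoc
import Groth.Agent.PerfC.QCohStalk
import Groth.Agent.PerfC.RpushTrunc
import Groth.Agent.PerfC.LTBound
import Groth.Agent.PerfC.DTens
import Groth.Agent.PerfB.TensUnit
import Groth.Agent.S1118
import Groth.Agent.Dcoh.MonAdj
import Groth.Agent.PerfC.RpushSingle
import Groth.Agent.PerfC.DerAux
import Groth.Agent.PerfC.RpushBound
import Groth.Agent.DRing.K229.Devissage
import Groth.Agent.Dcoh.DerSch
import Groth.Agent.S1054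

/-!
# Tor amplitude of derived direct images relative to a base

For `f : X ⟶ Y` quasi-compact and quasi-separated, `q : Y ⟶ S`, the tor amplitude of `Rf_* E` relative to
`q` is bounded below by that of `E` relative to `f ≫ q`.
-/

set_option autoImplicit false
universe u
open CategoryTheory CategoryTheory.Limits MonoidalCategory AlgebraicGeometry
attribute [local instance] HasDerivedCategory.standard

open scoped Groth.Agent.Dcoh.MonCat Groth.Agent.Dcoh.ModD

namespace K240.TorPush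

open DerivedCategory Groth.Agent Groth.Agent.Dcoh Groth.Agent.PerfB.RingKFlat Groth.Agent.Dcoh.KFlatAbs
open Groth.Agent.Dcoh.Stalk Groth.Agent.PerfB.StalkKFlat K238.StalkD K238.StalkPull K240.TorTen

local notation "stk(" x "," K ")" =>
  Functor.obj (Functor.mapHomologicalComplex (stalkF x) (ComplexShape.up ℤ)) K
local notation "pb(" f "," K ")" =>
  Functor.obj (Functor.mapHomologicalComplex (Scheme.Modules.pullback f) (ComplexShape.up ℤ)) K

variable {X Y S T V : Scheme.{u}}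

/-- K-flat resolution of a module. -/
lemma exists_kflat (N : S.Modules) : ∃ L : CochainComplex S.Modules ℤ, DCoh.IsKFlat L ∧
    Nonempty (DCoh.toD S L ≅ DCoh.inD S N) := by
  obtain ⟨L, w, -, -, hL, hw⟩ := PerfC.LTBound.exists_resolution
    ((HomologicalComplex.single S.Modules (ComplexShape.up ℤ) 0).obj N) 0
  exact ⟨L, hL, ⟨asIso (Q.map w) ≪≫
    ((DerivedCategory.singleFunctorIsoCompQ S.Modules 0).app N).symm⟩⟩

/-- `E ⊗^L M` through representatives. -/
noncomputable def ltenIso {K M M' : CochainComplex X.Modules ℤ} [DCoh.HasLTensorCx M]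
    (e : DCoh.toD X M ≅ DCoh.toD X M') (hM' : DCoh.IsKFlat M') :
    (DCoh.LTensorCx M).obj (DCoh.toD X K) ≅ DCoh.toD X ((DCoh.tensorCx.obj K).obj M') :=
  (ModTens.LTensorCxIso M).app _ ≪≫ (MonAdj.tensorRightIso e).app _ ≪≫ ModTens.tensorIso K M' hM'

/-- `E ⊗^L Lp^* N` is bounded below by the tor amplitude of `E` relative to `p`. -/
theorem isGE_lten (p : X ⟶ S) (E : DCoh.D X) {a : ℤ}
    (h : ∀ x : X, ∃ b : ℤ, DRing.HasTorAmplitudeIn (S.presheaf.stalk (p.base x)) a b
      ((stalkOverD p x).obj E))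
    {N : S.Modules} {L : CochainComplex S.Modules ℤ} (hL : DCoh.IsKFlat L)
    (e : DCoh.toD S L ≅ DCoh.inD S N) (M : CochainComplex X.Modules ℤ) [DCoh.HasLTensorCx M]
    (eM : DCoh.toD X M ≅ DCoh.toD X pb(p, L)) : ((DCoh.LTensorCx M).obj E).IsGE a := by
  let K := Q.objPreimage E
  have eK : DCoh.toD X K ≅ E := Q.objObjPreimageIso E
  have h1 : ((DCoh.tensorCx.obj K).obj pb(p, L)).IsGE a := by
    rw [CochainComplex.isGE_iff]
    intro i hi
    refine exactAt_tensor_pull p K (fun x => ?_) hL e i hi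
    obtain ⟨b, hb⟩ := h x
    exact ⟨b, torAmp_of_iso ((stalkOverD p x).mapIso eK.symm) hb⟩
  have h2 : (DCoh.toD X ((DCoh.tensorCx.obj K).obj pb(p, L))).IsGE a :=
    (DerivedCategory.isGE_Q_obj_iff _ _).2 h1
  exact DerivedCategory.TStructure.t.isGE_of_iso ((ltenIso eM (isKFlat_pullback p L hL)).symm ≪≫
    (DCoh.LTensorCx M).mapIso eK) a

/-- The tor amplitude of a derived direct image, `T` quasi-separated. -/
theorem amp_Rpush_aux [QuasiSeparatedSpace T] (f : X ⟶ V) [QuasiCompact f] [QuasiSeparated f]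
    [DCoh.HasRpush f] (q : V ⟶ T) (E : DCoh.D X) (hE : DCoh.IsQCohD E) {a b : ℤ}
    (h : ∀ x : X, ∃ b : ℤ, DRing.HasTorAmplitudeIn (T.presheaf.stalk ((f ≫ q).base x)) a b
      ((stalkOverD (f ≫ q) x).obj E))
    (hb : ((DCoh.Rpush f).obj E).IsLE b) (y : V) :
    DRing.HasTorAmplitudeIn (T.presheaf.stalk (q.base y)) a b
      ((stalkOverD q y).obj ((DCoh.Rpush f).obj E)) := by
  let K := Q.objPreimage ((DCoh.Rpush f).obj E)
  have eK : DCoh.toD V K ≅ (DCoh.Rpush f).obj E := Q.objObjPreimageIso _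
  refine torAmp_of_iso ((stalkOverIso q y K).symm ≪≫ (stalkOverD q y).mapIso eK)
    (torAmp_of_tensor (fun N => ?_) (fun i hi => ?_))
  · obtain ⟨G, hG, ⟨eG⟩⟩ := PerfC.QCohStalk.exists_isQCoh_stalk_iso (q.base y) N
    obtain ⟨L, hL, ⟨e⟩⟩ := exists_kflat G
    refine ⟨stk(q.base y, L), kfl_stalk hL _, ⟨stalkRes e (q.base y) ≪≫
      (DerivedCategory.singleFunctor _ 0).mapIso eG⟩, fun i hi => ?_⟩
    refine exactAt_stalk_tensor q K L y i ?_
    have i1 := DerPull.hasLpull f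
    have i2 := DerPull.hasLpull q
    have i3 := ModTens.hasLTensorCx pb(q, L)
    have i4 := ModTens.hasLTensorCx pb(f, pb(q, L))
    have hLq := isKFlat_pullback q L hL
    have h1 : DCoh.IsQCohD (DCoh.toD V pb(q, L)) := by
      refine PerfA.QCohD.isQCohD_of_iso ((DerPull.lpullIso q L hL).symm ≪≫
        (DCoh.Lpull q).mapIso e).symm ?_
      exact S1054.result q _ (PerfA.QCohD.isQCohD_inD _ hG)
    obtain ⟨e1⟩ := S1118.result f E hE pb(q, L) h1 pb(f, pb(q, L))
      ⟨(DerPull.lpullIso f pb(q, L) hLq).symm⟩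
    have h2 : ((DCoh.LTensorCx pb(f, pb(q, L))).obj E).IsGE a := by
      refine isGE_lten (f ≫ q) E h hL e _ (Q.mapIso ?_)
      exact (NatIso.mapHomologicalComplex (Scheme.Modules.pullbackComp f q) _).app L
    have h3 := PerfC.RpushTrunc.isGE_Rpush f ((DCoh.LTensorCx pb(f, pb(q, L))).obj E) a
    have h4 : (DCoh.toD V ((DCoh.tensorCx.obj K).obj pb(q, L))).IsGE a :=
      DerivedCategory.TStructure.t.isGE_of_iso (e1.symm ≪≫ (DCoh.LTensorCx pb(q, L)).mapIso eK.symm ≪≫
        ltenIso (Iso.refl _) hLq) a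
    exact (CochainComplex.isGE_iff _ _).1 ((DerivedCategory.isGE_Q_obj_iff _ _).1 h4) i hi
  · rw [exactAt_res_iff]
    refine exactAt_stalk ?_ y
    have h5 : (DCoh.toD V K).IsLE b := DerivedCategory.TStructure.t.isLE_of_iso eK.symm b
    exact (CochainComplex.isLE_iff _ _).1 ((DerivedCategory.isLE_Q_obj_iff _ _).1 h5) i hi

section Bound

open Pretriangulated

/-- Upper bounds for `Rf_*` from upper bounds on quasi-coherent modules. -/
theorem isLE_Rpush (f : X ⟶ Y) [DCoh.HasRpush f] (N : ℤ)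
    (hN : ∀ M : X.Modules, Coh.IsQCoh M → ∀ i : ℤ, N < i →
      IsZero (DCoh.HD ((DCoh.Rpush f).obj (DCoh.inD X M)) i))
    (E : DCoh.D X) (hE : DCoh.IsQCohD E) (c b : ℤ) [E.IsGE c] [E.IsLE b] :
    ((DCoh.Rpush f).obj E).IsLE (b + N) := by
  obtain ⟨_, _⟩ := PerfC.RpushBound.isTriang_Rpush f
  let P : ObjectProperty (DCoh.D X) := fun K => ((DCoh.Rpush f).obj K).IsLE (b + N)
  have p1 : P.IsClosedUnderIsomorphisms := ⟨fun {K L} e (h : ((DCoh.Rpush f).obj K).IsLE (b + N)) =>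
    DerivedCategory.TStructure.t.isLE_of_iso ((DCoh.Rpush f).mapIso e) (b + N)⟩
  have p2 : P.ContainsZero := ⟨⟨_, isZero_zero _, by
    change ((DCoh.Rpush f).obj _).IsLE (b + N)
    rw [DerivedCategory.isLE_iff]
    exact fun i _ => (DerivedCategory.homologyFunctor _ i).map_isZero
      ((DCoh.Rpush f).map_isZero (isZero_zero _))⟩⟩
  have p3 : P.IsTriangulatedClosed₂ := ⟨fun T hT h₁ h₃ => ObjectProperty.le_isoClosure _ _
    (PerfC.DerAux.isLE_obj₂ _ ((DCoh.Rpush f).map_distinguished T hT) (b + N) h₁ h₃)⟩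
  refine K229.Devissage.homology P E c b (fun i hi => ?_) (fun i => ?_)
  · rcases hi with hi | hi
    · exact E.isZero_of_isGE c i hi
    · exact E.isZero_of_isLE b i hi
  · by_cases hi : i ≤ b
    · change ((DCoh.Rpush f).obj _).IsLE (b + N)
      rw [DerivedCategory.isLE_iff]
      intro k hk
      exact (hN _ (hE i) (k - i) (by omega)).of_iso
        (PerfC.RpushSingle.isoSingle f _ i k (k - i) (by omega))
    · exact P.prop_of_isZero ((DerivedCategory.singleFunctor X.Modules i).map_isZero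
        (E.isZero_of_isLE b i (by omega)))

/-- Tor amplitude in `[a, b]` relative to a base implies cohomology in `[a, b]`. -/
lemma bounds_of_amp (p : X ⟶ S) (E : DCoh.D X) {a b : ℤ}
    (h : ∀ x : X, DRing.HasTorAmplitudeIn (S.presheaf.stalk (p.base x)) a b
      ((stalkOverD p x).obj E)) : E.IsGE a ∧ E.IsLE b := by
  let K := Q.objPreimage E
  have eK : DCoh.toD X K ≅ E := Q.objObjPreimageIso E
  have key (i : ℤ) (hi : i < a ∨ b < i) : K.ExactAt i := by
    rw [exactAt_iff_stalk]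
    intro x
    rw [← exactAt_res_iff (p.stalkMap x).hom]
    exact K227.PerfFlat.exactAt_of_torAmp _
      (torAmp_of_iso ((stalkOverD p x).mapIso eK.symm ≪≫ stalkOverIso p x K) (h x)) i hi
  constructor
  · have h1 : K.IsGE a := (CochainComplex.isGE_iff _ _).2 fun i hi => key i (Or.inl hi)
    have h2 : (DCoh.toD X K).IsGE a := (DerivedCategory.isGE_Q_obj_iff _ _).2 h1
    exact DerivedCategory.TStructure.t.isGE_of_iso eK a
  · have h1 : K.IsLE b := (CochainComplex.isLE_iff _ _).2 fun i hi => key i (Or.inr hi)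
    have h2 : (DCoh.toD X K).IsLE b := (DerivedCategory.isLE_Q_obj_iff _ _).2 h1
    exact DerivedCategory.TStructure.t.isLE_of_iso eK b

end Bound

section Main

open K240.AmpLoc PerfA.Restrict

lemma amp_congr {p p' : X ⟶ S} (h : p = p') (x : X) (a b : ℤ) (K : DCoh.D X) :
    DRing.HasTorAmplitudeIn (S.presheaf.stalk (p.base x)) a b ((stalkOverD p x).obj K) ↔
      DRing.HasTorAmplitudeIn (S.presheaf.stalk (p'.base x)) a b ((stalkOverD p' x).obj K) := by
  subst h; rfl

/-- **Tor amplitude of derived direct images relative to a base.** -/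
theorem amp_Rpush (f : X ⟶ Y) [QuasiCompact f] [QuasiSeparated f] [DCoh.HasRpush f] (q : Y ⟶ S)
    (E : DCoh.D X) (hE : DCoh.IsQCohD E) {a b : ℤ} (V : Y.Opens)
    (h : ∀ x : X, f.base x ∈ V → ∃ b : ℤ,
      DRing.HasTorAmplitudeIn (S.presheaf.stalk ((f ≫ q).base x)) a b
        ((stalkOverD (f ≫ q) x).obj E))
    (hb : ((restrictD V.ι).obj ((DCoh.Rpush f).obj E)).IsLE b) (y : Y) (hy : y ∈ V) :
    DRing.HasTorAmplitudeIn (S.presheaf.stalk (q.base y)) a b
      ((stalkOverD q y).obj ((DCoh.Rpush f).obj E)) := by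
  obtain ⟨T, hT, hyT, -⟩ := exists_isAffineOpen_mem_and_subset (x := q y) (U := ⊤) trivial
  let W : Y.Opens := V ⊓ q ⁻¹ᵁ T
  have hyW : y ∈ W := ⟨hy, hyT⟩
  have hr : Set.range (W.ι ≫ q) ⊆ Set.range T.ι := by
    rw [Scheme.Opens.range_ι]
    rintro _ ⟨w, rfl⟩
    exact w.2.2
  let qW : W.toScheme ⟶ T.toScheme := IsOpenImmersion.lift T.ι (W.ι ≫ q) hr
  have hqW : qW ≫ T.ι = W.ι ≫ q := IsOpenImmersion.lift_fac _ _ _
  have aT : IsAffine T.toScheme := hT
  have i1 : DCoh.HasRpush (f ∣_ W) := Dcoh.DerSch.hasRpush _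
  have sq := (isPullback_morphismRestrict f W).flip
  obtain ⟨e⟩ := Dcoh.DerSch.exists_rpushRestrictIso f (f ∣_ W) (f ⁻¹ᵁ W).ι W.ι sq
  let EW := (restrictD (f ⁻¹ᵁ W).ι).obj E
  have key := amp_Rpush_aux (f ∣_ W) qW EW (PerfA.QCohD.isQCohD_restrictD _ hE) (a := a) (b := b)
    (fun x => ?_) ?_ ⟨y, hyW⟩
  · have h1 := torAmp_of_iso ((stalkOverD qW ⟨y, hyW⟩).mapIso (e.symm.app E)) key
    have h2 := (amp_comp_open_iff qW T.ι ⟨y, hyW⟩ a b _).2 h1
    have h3 := (amp_congr hqW ⟨y, hyW⟩ a b _).1 h2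
    exact (amp_restrict_iff W.ι q ⟨y, hyW⟩ a b _).1 h3
  · have hx : f.base x.1 ∈ V := x.2.1
    obtain ⟨b', hb'⟩ := h x.1 hx
    refine ⟨b', ?_⟩
    have w : (f ∣_ W ≫ qW) ≫ T.ι = (f ⁻¹ᵁ W).ι ≫ f ≫ q := by
      rw [Category.assoc, hqW, ← Category.assoc, ← Category.assoc, sq.w]
    have h1 := (amp_restrict_iff (f ⁻¹ᵁ W).ι (f ≫ q) x a b' E).2 hb'
    have h2 := (amp_congr w x a b' _).2 h1
    exact (amp_comp_open_iff (f ∣_ W ≫ qW) T.ι x a b' _).1 h2
  · have h1 : ((restrictD (W.ι)).obj ((DCoh.Rpush f).obj E)).IsLE b := by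
      have e2 : (restrictD (Y.homOfLE (inf_le_left : W ≤ V))).obj
          ((restrictD V.ι).obj ((DCoh.Rpush f).obj E)) ≅
          (restrictD (W.ι)).obj ((DCoh.Rpush f).obj E) :=
        (PerfA.PerfLocal.restrictDComp (Y.homOfLE (inf_le_left : W ≤ V)) V.ι).app _ ≪≫
          (PerfA.PerfLocal.restrictDCongr (Scheme.homOfLE_ι _ _)).app _
      have h2 : ((restrictD (Y.homOfLE (inf_le_left : W ≤ V))).obj
          ((restrictD V.ι).obj ((DCoh.Rpush f).obj E))).IsLE b :=
        PerfA.ExactD.isLE_map _ _ b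
      exact DerivedCategory.TStructure.t.isLE_of_iso e2 b
    exact DerivedCategory.TStructure.t.isLE_of_iso (X := (restrictD W.ι).obj ((DCoh.Rpush f).obj E))
      (e.app E) b

end Main

end K240.TorPush
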