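import Groth.Agent.KSix.K240.TorPush

/-!
# Tor amplitude of derived direct images relative to a base: global and local forms
-/

set_option autoImplicit false
universe u
open CategoryTheory CategoryTheory.Limits AlgebraicGeometry
attribute [local instance] HasDerivedCategory.standard

namespace K240.TorPush2

open DerivedCategory Groth.Agent Groth.Agent.Dcoh Groth.Agent.Dcoh.Stalk K238.StalkD K240.TorPush
  Groth.Agent.PerfA.Restrict

variable {X Y S : Scheme.{u}}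

/-- Global form. -/
theorem hasTorAmplitudeD_Rpush (f : X ⟶ Y) [QuasiCompact f] [QuasiSeparated f] [DCoh.HasRpush f]
    (q : Y ⟶ S) (N : ℤ)
    (hN : ∀ M : X.Modules, Coh.IsQCoh M → ∀ i : ℤ, N < i →
      IsZero (DCoh.HD ((DCoh.Rpush f).obj (DCoh.inD X M)) i))
    (E : DCoh.D X) (hE : DCoh.IsQCohD E) (c : ℤ) [E.IsGE c] (a b : ℤ)
    (h : DerSch.HasTorAmplitudeD (f ≫ q) a b E) :
    DerSch.HasTorAmplitudeD q a (b + N) ((DCoh.Rpush f).obj E) := by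
  rw [hasTorAmplitudeD_iff] at h ⊢
  intro y
  have h1 := (bounds_of_amp (f ≫ q) E h).2
  have h2 := isLE_Rpush f N hN E hE c b
  refine amp_Rpush f q E hE ⊤ (fun x _ => ⟨b, h x⟩) ?_ y trivial
  exact PerfA.ExactD.isLE_map _ _ _

/-- Uniform lower bounds on compact sets. -/
lemma exists_lower {K : Set X} (hK : IsCompact K) (P : X → ℤ → Prop)
    (mono : ∀ (x : X) (a a' : ℤ), a' ≤ a → P x a → P x a')
    (loc : ∀ x ∈ K, ∃ (V : X.Opens) (a : ℤ), x ∈ V ∧ ∀ x' : X, x' ∈ V → P x' a) :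
    ∃ a : ℤ, ∀ x ∈ K, P x a := by
  refine hK.induction_on (p := fun s => ∃ a : ℤ, ∀ x ∈ s, P x a) ⟨0, fun x hx => hx.elim⟩
    (fun s t hst ⟨a, ha⟩ => ⟨a, fun x hx => ha x (hst hx)⟩)
    (fun s t ⟨a, ha⟩ ⟨b, hb⟩ => ⟨min a b, ?_⟩) (fun x hx => ?_)
  · rintro x (hx | hx)
    · exact mono x _ _ (min_le_left a b) (ha x hx)
    · exact mono x _ _ (min_le_right a b) (hb x hx)
  · obtain ⟨V, a, hxV, ha⟩ := loc x hx
    exact ⟨V, mem_nhdsWithin_of_mem_nhds (V.2.mem_nhds hxV), a, ha⟩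

/-- Local form. -/
theorem locFiniteTorAmplitudeD_Rpush (f : X ⟶ Y) [QuasiCompact f] [QuasiSeparated f]
    [DCoh.HasRpush f] (q : Y ⟶ S) (E : DCoh.D X) (hE : DCoh.IsQCohD E) (d : ℤ) [E.IsLE d]
    (h : DerSch.LocFiniteTorAmplitudeD (f ≫ q) E) :
    DerSch.LocFiniteTorAmplitudeD q ((DCoh.Rpush f).obj E) := by
  rw [locFiniteTorAmplitudeD_iff] at h ⊢
  intro y
  obtain ⟨V, hV, hyV, -⟩ := exists_isAffineOpen_mem_and_subset (x := y) (U := ⊤) trivial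
  have hc : IsCompact ((f ⁻¹ᵁ V : X.Opens) : Set X) := f.isCompact_preimage hV.isCompact
  obtain ⟨a, ha⟩ := exists_lower hc (fun x a => ∃ b : ℤ,
    DRing.HasTorAmplitudeIn (S.presheaf.stalk ((f ≫ q).base x)) a b
      ((stalkOverD (f ≫ q) x).obj E))
    (fun x a a' haa' ⟨b, hb⟩ => ⟨b, torAmp_mono haa' le_rfl hb⟩)
    (fun x _ => by
      obtain ⟨V, a, b, hxV, hV⟩ := h x
      exact ⟨V, a, hxV, fun x' hx' => ⟨b, hV x' hx'⟩⟩)
  have aV : IsAffine V.toScheme := hV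
  have i1 : DCoh.HasRpush (f ∣_ V) := Dcoh.DerSch.hasRpush _
  obtain ⟨e⟩ := Dcoh.DerSch.exists_rpushRestrictIso f (f ∣_ V) (f ⁻¹ᵁ V).ι V.ι
    (isPullback_morphismRestrict f V).flip
  obtain ⟨N, hN⟩ := PerfC.RpushBound.exists_isLE_Rpush (f ∣_ V)
  have h1 : ((restrictD (f ⁻¹ᵁ V).ι).obj E).IsLE d := PerfA.ExactD.isLE_map _ _ _
  have h2 := hN ((restrictD (f ⁻¹ᵁ V).ι).obj E) d (PerfA.QCohD.isQCohD_restrictD _ hE) h1
  have h3 : ((restrictD V.ι).obj ((DCoh.Rpush f).obj E)).IsLE (d + N) :=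
    DerivedCategory.TStructure.t.isLE_of_iso
      (X := (DCoh.Rpush (f ∣_ V)).obj ((restrictD (f ⁻¹ᵁ V).ι).obj E))
      (Y := (restrictD V.ι).obj ((DCoh.Rpush f).obj E)) (e.symm.app E) (d + N)
  exact ⟨V, a, d + N, hyV, fun y' hy' => amp_Rpush f q E hE V (fun x hx => ha x hx) h3 y' hy'⟩

end K240.TorPush2
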